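import Cfsg.Agent.BZ.C3.Six
import Cfsg.Agent.BZ.C4.Co1
import Cfsg.Agent.BZ.C2.Main
import Cfsg.Agent.BHZ.Spor.RowCo13

/-!
# BZ, the cover `2.Co₁`, `p = 3` (helper43)

* `co1_rt` : a faithful block with a non-abelian defect group has maximal defect; `co1_2_3`.
-/

set_option autoImplicit false
set_option maxHeartbeats 400000
set_option maxRecDepth 100000
set_option linter.unusedSectionVars false

namespace Cfsg.Agent.BZ.C3

open Cfsg Subgroup Cfsg.Agent.BZ.T Cfsg.Agent.BHZ.Spor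
open scoped commutatorElement

theorem atC_of_descend {p : ℕ} [Fact p.Prime] {S T : Type} [Group S] [Finite S] [Group T] {y : S}
    (φ : centralizer ({y} : Set S) →* T) (hs : Function.Surjective φ) (hk : ∀ n, φ n = 1 → (n : S) ∈ zpowers y)
    (hT : R0 p T) : AtC p y := fun _ hD hy hyD =>
  (hT _ (hD.descend hy hyD φ hs hk)).imp (rt_of_descend hy hD.pg φ hk) fun h => isCyclic_iff_le.2 ⟨y, hy, fun d hd =>
    hk ⟨d, mem_centralizer_singleton_iff.2 (hyD d hd).symm⟩ (mem_bot.1 (h.le ⟨_, hd, rfl⟩))⟩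

theorem r0_psu43 {F : Type} [Field F] [Fintype F] (hF : Fintype.card F = 9) {T : Type} [Group T] [Finite T]
    (e : T ≃* PSU 4 F 3) : R0 3 T := by
  have h3 : Fact (Nat.Prime 3) := ⟨Nat.prime_three⟩
  have hc : CharP F 3 := by
    obtain ⟨p, hp⟩ := CharP.exists F
    obtain ⟨n, hpp, hn⟩ := FiniteField.card F p
    have h1 : p ∣ 3 ^ 2 := by
      rw [show 3 ^ 2 = Fintype.card F from hF.symm, hn]
      exact dvd_pow_self p n.ne_zero
    rwa [(Nat.prime_dvd_prime_iff_eq hpp Nat.prime_three).1 (hpp.dvd_of_dvd_pow h1)] at hp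
  exact r0_of_constr fun y hy => constr_of_locChar (H400.LieLocal.local_char_of_lie
    (Or.inr (Or.inr (Or.inl ⟨F, inferInstance, inferInstance, hc, 4, 3, hF, by norm_num, by norm_num, ⟨e⟩⟩)))
    fun h0 => absurd h0.1 (by norm_num)) hy

namespace CoE

open Cfsg.Spor (Co1 Suz)
open Cfsg.Agent.LThreeMB (fr XX Zx)
open Cfsg.Agent.LThreeMB.CoOneFin (coOne)

/-- a central element of the class `3A` -/
def Z3 (D : Subgroup Co1) : Prop := ∃ y ∈ D, orderOf y = 3 ∧ fr y = 1 ∧ ∀ d ∈ D, Commute y d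

open Cfsg.Agent.LThreeCo1Twelve in
theorem z3_twelve [Finite Co1] {D : Subgroup Co1} (hD : LocB 3 D) (hs : Cent.s ∈ D) (hsD : ∀ d ∈ D, Commute Cent.s d) :
    Z3 D := by
  have h3 : Fact (Nat.Prime 3) := ⟨Nat.prime_three⟩
  have hx3 : Cent.x ^ 3 ^ 1 = 1 := by rw [pow_one, pow_succ', pow_two]; exact Cent.x3
  have hn : ∀ c, Commute Cent.s c → ∀ u ∈ zpowers Cent.x, c * u * c⁻¹ ∈ zpowers Cent.x := fun c hc u hu => by
    obtain ⟨k, rfl⟩ := hu
    change c * Cent.x ^ k * c⁻¹ ∈ _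
    rw [← conj_zpow]
    rcases Cent.cases hc.symm with h | h <;> rw [h]
    · exact zpow_mem (mem_zpowers _) k
    · exact zpow_mem (inv_mem (mem_zpowers _)) k
  have hx : Cent.x ∈ D := hD.core _ (isPGroup_zpowers hx3) (fun c hc => hn c (hsD c hc)) (fun c hc => hn c (hc _ hs))
    (mem_zpowers _)
  have hxD : ∀ d ∈ D, Commute Cent.x d := fun d hd => by
    obtain ⟨k, hk⟩ := pelt_of_mem hD.pg hd
    have h1 : Commute (d ^ 2) Cent.x := by
      rw [pow_two, Commute, SemiconjBy, ← mul_inv_eq_iff_eq_mul, mul_inv_rev]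
      calc d * d * Cent.x * (d⁻¹ * d⁻¹) = d * (d * Cent.x * d⁻¹) * d⁻¹ := by group
        _ = Cent.x := by
          rcases Cent.cases (hsD d hd).symm with h | h
          · rw [h, h]
          · rw [h, ← conj_inv, h, inv_inv]
    have h2 : d ∈ zpowers (d ^ 2) := mem_zpowers_pow_iff.2 (Nat.Coprime.coprime_dvd_right
      (orderOf_dvd_of_pow_eq_one hk) (Nat.Coprime.pow_right k (by norm_num)))
    exact (commute_of_mem_zpowers h1 h2).symm
  have h0 : LThreeCo1.FourCo1.X 0 = (QuotientGroup.mk (LThreeCo1.Rel.e 1) : Co1) := by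
    rw [Gam.X0_eq, Ord.re (i := 1) rfl]
    rfl
  refine ⟨_, ?_, LThreeMB.NegRoot.order_one, LThreeMB.NegRoot.fr_one, fun d hd => ?_⟩ <;> rw [← h0, Cent.X0_def]
  · exact mul_mem (mul_mem hs hx) (mul_mem hs hx)
  · exact ((hsD d hd).mul_left (hxD d hd)).mul_left ((hsD d hd).mul_left (hxD d hd))

theorem loc [Finite Co1] {D : Subgroup Co1} (hD : LocB 3 D) (hna : ¬ IsMulCommutative D) : RegTriv 3 D ∨ Z3 D := by
  have h3 : Fact (Nat.Prime 3) := ⟨Nat.prime_three⟩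
  obtain ⟨y, hy', hy, hyD⟩ := exists_deep hD.pg hna
  have hle : D ≤ centralizer ({y} : Set Co1) := fun d hd => mem_centralizer_singleton_iff.2 (hyD d hd).symm
  have hm : y ∈ D := commutator_le.2 (fun a ha b hb => by
    rw [commutatorElement_def]
    exact D.mul_mem (D.mul_mem (D.mul_mem ha hb) (D.inv_mem ha)) (D.inv_mem hb)) hy'
  rcases coOne.ranks y hy with h | h | h | h
  · exact .inr ⟨y, hm, hy, h, hyD⟩
  · exact .inl (hD.rt_of_constr hm hyD (Co13.constr_six.conj (isConj_iff.2 (coOne.six _ y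
      (TID.SO.order_mk (by norm_num) LThreeCo1Six.Main.orderOf_x) hy LThreeCo1.Ranks.fr_c6 h))))
  · obtain ⟨t, ht, htf, ⟨e⟩, -⟩ := coOne.nine
    exact (Co13.not_deep_eight ht e (deep_conj (isConj_iff.2 (coOne.eight y t hy ht h htf))
      (commutator_mono hle hle hy'))).elim
  · obtain ⟨c, hc⟩ := coOne.twelve _ y LThreeMB.CTwelveFix.order hy LThreeMB.CTwelveFix.fr_g12 h
    replace hc : c * LThreeCo1Twelve.Cent.s * c⁻¹ = y := by
      rw [← LThreeCo1Twelve.Main.s_eq]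
      exact hc
    obtain ⟨u, h1, h2, h4, h5⟩ := z3_twelve (hD.congr (MulAut.conj c)) (show c * _ * c⁻¹ ∈ D from hc ▸ hm) fun d hd =>
      (MulAut.conj c).injective (by
        rw [map_mul, map_mul, MulAut.conj_apply c LThreeCo1Twelve.Cent.s, hc]
        exact hyD _ hd)
    refine .inr ⟨c * u * c⁻¹, h1, ((MulAut.conj c).orderOf_eq u).trans h2, (LThreeMB.fr_conj c u).trans h4, fun d hd => ?_⟩
    obtain ⟨d, rfl⟩ := (MulAut.conj c).surjective d
    exact (h5 d hd).map (MulAut.conj c)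

open Cfsg.Agent.TID.Suz Cfsg.Agent.H714.S8.SuzFam Cfsg.Agent.BHZ.Spor.Suz3 Cfsg.Agent.H123.Cls.SuzDat
open Cfsg.Agent.SuzThree.ThreeWr (y0)
open Cfsg.Agent.KFacts.SuzLFour (e0 e0_comm e0_sq e0_ne)
open Cfsg.Agent.PreUniq.Spor.SuzP (E E_le_L)

theorem atC_y0 : AtC 3 y0 := by
  have := finite_Suz
  have h3 : Fact (Nat.Prime 3) := ⟨Nat.prime_three⟩
  obtain ⟨g, hg, hk⟩ := H811.SuzCov.cov
  obtain ⟨F, _, _, hF, ⟨e⟩⟩ := H811.PsuH.psu
  have : Finite LThreeCo1Twelve.Gam.H := Finite.of_surjective g hg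
  exact atC_of_descend g hg (fun n hn => (hk n).1 hn) (r0_psu43 hF e)

variable {K : Type} [Group K] [Finite K] {σ : K →* Co1} {M : Ideal AlgInt} {B : Set (IrrCharacter K)} {D : Subgroup K}

theorem rt (H : Hyp 3 M B D σ) (hc : Nat.card (center K) = 2)
    (h42 : ∀ (g : K) (w : Co1), orderOf w = 42 → w ^ 21 = σ g → g * g ≠ 1) : RegTriv 3 (D.map σ) := by
  have := finite_Suz
  have := C4.co1_fin
  have h2 : Fact (Nat.Prime 2) := ⟨Nat.prime_two⟩
  have h3 : Fact (Nat.Prime 3) := ⟨Nat.prime_three⟩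
  refine (loc H.locB H.nab_map).elim id fun ⟨y, hy, hy3, hf, hyD⟩ => ?_
  obtain ⟨e⟩ := coOne.suz y hy3 hf
  obtain ⟨φ, hs, hk⟩ := exists_hom_of_XX e
  replace hk := fun n hn => (hk n).1 hn
  have hL := H.locB.descend hy hyD φ hs hk
  have hcy : ¬ IsCyclic (((D.map σ).subgroupOf _).map φ) := fun h => H.nab_map (comm_of_forall fun a ha b hb =>
    congrArg Subtype.val (forall_of_comm (comm_of_map_cyclic φ (ker_le_center φ hk) h)
      ⟨a, mem_centralizer_singleton_iff.2 (hyD a ha).symm⟩ ha ⟨b, mem_centralizer_singleton_iff.2 (hyD b hb).symm⟩ hb))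
  obtain ⟨x, hx, hx3, hxD⟩ := exists_central hL.pg (N := ((D.map σ).subgroupOf _).map φ)
    (fun h => hcy (by rw [h]; infer_instance)) le_rfl
    fun d hd u hu => mul_mem (mul_mem hd hu) (inv_mem hd)
  rcases fam_three hx3 with h | h | h
  · exact rt_of_descend hy H.locB.pg φ hk (hL.rt_of_constr hx hxD (constr_four hx3 h))
  · obtain ⟨u, hu, hu1, -, hu6⟩ := exists_x
    obtain ⟨α, hα, -⟩ := fam_gal x u (h.trans hu6.symm)
    let ψ := α.toMonoidHom.comp φ
    have hs' : Function.Surjective ψ := α.surjective.comp hs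
    have hk' : ∀ n, ψ n = 1 → (n : Co1) ∈ zpowers y := fun n hn => hk n (α.map_eq_one_iff.1 hn)
    have hL' := H.locB.descend hy hyD ψ hs' hk'
    have h4 : u ∈ ((D.map σ).subgroupOf _).map ψ := by
      obtain ⟨c, h4, rfl⟩ := hx
      exact ⟨c, h4, hα⟩
    have h5 : ∀ d ∈ ((D.map σ).subgroupOf _).map ψ, Commute u d := by
      rintro _ ⟨d, hd, rfl⟩
      exact hα ▸ (hxD _ ⟨d, hd, rfl⟩).map α
    have h6 : ∀ c, Commute u c → ∀ a ∈ E, c * a * c⁻¹ ∈ E := fun c h6 a ha => by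
      rw [← (nine.comm ha (nine.cent u hu hu1 ▸ mem_centralizer_singleton_iff.2 h6.symm)).eq, mul_inv_cancel_right]
      exact ha
    have h7 := hL'.core E nine.pg (fun c h7 => h6 c (h5 c h7)) fun c h7 => h6 c (h7 u h4)
    by_cases h8 : ((D.map σ).subgroupOf _).map ψ ≤ E
    · have h9 : orderOf e0 = 2 := orderOf_eq_prime (by rw [pow_two, e0_sq]) e0_ne
      refine (bad_six H hc hy hy3 hyD ψ hs' hk' nine (le_antisymm h8 h7) (t := e0) (nine.reg (nine.cent u hu hu1 ▸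
        mem_centralizer_singleton_iff.2 (e0_comm u (E_le_L hu))) (by rw [h9]; norm_num)) h9 ?_ h42).elim
      rw [show Nat.card (centralizer ({e0} : Set Suz)) = 161280 from KFacts.SuzTwoB.card_CE]
      norm_num
    · exact rt_of_descend hy H.locB.pg ψ hk' (nine_rt nine hu hu1 hL'.pg h4 h5 h8)
  · obtain ⟨α, hα, -⟩ := fam_gal y0 x (fam_y0.trans h.symm)
    exact rt_of_descend hy H.locB.pg φ hk (((hα ▸ atC_y0.congr α) _ hL hx hxD).resolve_right hcy)

end CoE

open Cfsg.Agent.TAB.Eng Cfsg.Agent.TAB.Use Cfsg.Agent.TAB.Co1 Cfsg.Agent.BZ.C4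

variable {K : Type} [Group K] [Finite K] {σ : K →* Spor.Co1} {M : Ideal AlgInt} {B : Set (IrrCharacter K)}
  {E : Subgroup K} {T : TD Spor.Co1 D} {ψ : K → ℂ}

/-- **EXCL** -/
theorem co1_rt (H : Hyp 3 M B E σ) (hc : Nat.card (center K) = 2) (L : Lee T σ ψ) : RegTriv 3 (E.map σ) :=
  CoE.rt H hc fun g w h1 h2 h3 => by
    have h4 := L.dbl g
    rw [h3, L.one, ← h2, T.pow, (by decide +kernel : ∀ i < D.n, 42 = D.ord i →
      1 - nth r1 (D.pwf i 21) + nth r2 (D.pwf i 21) = -24) _ (T.lt w) (h1.symm.trans (T.ord w))] at h4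
    norm_num at h4

theorem fd24 (L : Lee T σ ψ) (hk : σ.ker = center K) : C2.Fd K 24 := by
  refine ⟨⟨ψ, L.irr⟩, L.faith hk (fun _ => 1) fun g => by simp, ?_⟩
  have h1 := Blocks.Basic.irr_one_eq_charDegree L.irr
  rw [L.one] at h1
  exact_mod_cast h1.symm

/-- **`2.Co1`, `p = 3`** -/
theorem co1_2_3 : ∀ (S : Type) [Group S] [Finite S], Spor.IsoCo1 S → Cov XP 2 3 S := by
  rintro S _ _ ⟨e⟩
  have : Fact (Nat.Prime 3) := ⟨Nat.prime_three⟩
  have := co1_fin
  refine Cov.of_equiv e fun K _ _ σ M B D H hc => ?_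
  obtain ⟨T, hT⟩ := exists_tb
  obtain ⟨ψ, L⟩ := hT.lee H.qs.1.commutator_eq_top H.surj H.ker hc
  exact (fd24 L H.ker).xp (a := 1) (d := 8) H (co1_rt H hc L) (reg_of_rat hT.mass hT.rat (by decide +kernel)) (by norm_num)
    (by norm_num) (by rw [co1_card]; norm_num)

end Cfsg.Agent.BZ.C3
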