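import Cfsg.Agent.BZ.C3.McL
import Cfsg.Agent.MK.S2.J3Cov
import Cfsg.Agent.OddHalf.Small.J3
import Cfsg.Agent.Characters.CCBasic

/-!
# BZ, the cover `3.J₃`, `p = 2` (helper43)
-/

set_option autoImplicit false
set_option maxHeartbeats 400000
set_option maxRecDepth 100000

namespace Cfsg.Agent.BZ.C3

open Cfsg Subgroup Cfsg.Agent.TAB Cfsg.Agent.TAB.Eng Cfsg.Agent.TAB.Use Cfsg.Agent.BZ.T Cfsg.Agent.BZ.C2
open Cfsg.Agent.TH.Spor Cfsg.Agent.Characters Cfsg.Agent.Characters.Core Cfsg.Agent.OddOrderCharacters.VChar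
open scoped ComplexConjugate

theorem j3_ra {S : Type} [Group S] [Finite S] (h : Spor.IsoJ3 S) : RA 2 S :=
  have := Fact.mk Nat.prime_two
  (C1.rc_of_locChar (OddHalf.Small.J3.j3 S h).2).ra

theorem j3_3_2 : ∀ (S : Type) [Group S] [Finite S], Spor.IsoJ3 S → Cov XP 3 2 S := by
  have := Fact.mk Nat.prime_two
  have := Fact.mk Nat.prime_three
  intro S _ _ h K _ _ σ M B D H hc
  obtain ⟨T, hm, hr, hT⟩ := J3.exists_tab h
  exact (fd_two (r := 3) H hc hT ![3, 12, 13] ![5, 19, 20] (by decide +kernel) (by decide +kernel) (by decide +kernel) 0 324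
    (by decide +kernel)).xp (a := 2) H (H.rt_of_ra (j3_ra h)) (reg_of_rat hm hr hT (d := 5) (by decide +kernel)) (by decide)
    (by decide) (by rw [hm.1]; decide)

/-- a character of degree `1215` on a subgroup of order `17` -/
theorem par17 {K : Type} [Group K] [Finite K] {χ : K → ℂ} (hχ : IsIrrCharacter K χ) (h1 : χ 1 = 1215) (C : Subgroup K)
    [Fintype C] [DecidableEq C] (hC : Nat.card C = 17) :
    (72 : ℝ) ≤ ∑ c ∈ Finset.univ.erase (1 : C), Complex.normSq (χ c) := by
  have : Fact (Nat.Prime 17) := ⟨by norm_num⟩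
  have hcy := isCyclic_of_prime_card hC
  have hab : ∀ a b : C, a * b = b * a := fun a b => (IsCyclic.commGroup (α := C)).mul_comm a b
  have := finite_irr (G := C)
  have := Fintype.ofFinite (IrrCharacter C)
  have hg := gen_restrict C (gen_of_irr hχ)
  have hf := gen_isClassFunction hg
  choose m hm using fun θ : IrrCharacter C => gen_inner hg (gen_of_irr θ.2)
  have h2 : ∑ θ, m θ = 1215 := by
    have h3 := congrFun (classFunction_eq_sum hf) 1
    simp only [Finset.sum_apply, Pi.smul_apply, hm, CCBasic.irr_apply_one_of_comm hab (Subtype.property _), smul_eq_mul,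
      mul_one, OneMemClass.coe_one, h1] at h3
    exact_mod_cast h3.symm
  have h3 := classInner_eq_sum hf hf
  simp only [hm, map_intCast, classInner_self_eq_ofReal, hC] at h3
  have h4 : ((17 : ℝ)⁻¹ * ∑ c : C, Complex.normSq (χ c)) = ((∑ θ, m θ * m θ : ℤ) : ℝ) := by
    exact_mod_cast h3
  have h5 : 0 ≤ ∑ θ, (m θ * m θ - 143 * m θ + 5112) := Finset.sum_nonneg fun θ _ => by
    rcases le_total (m θ) 71 with h | h
    · nlinarith
    · rcases h.eq_or_lt with h | h
      · rw [← h]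
        norm_num
      · nlinarith
  rw [Finset.sum_add_distrib, Finset.sum_sub_distrib, ← Finset.mul_sum, h2, Finset.sum_const, Finset.card_univ,
    ← Nat.card_eq_fintype_card, CCBasic.card_irr_of_comm hab, hC] at h5
  have h6 : (86841 : ℝ) ≤ ((∑ θ, m θ * m θ : ℤ) : ℝ) := by
    have h7 : (86841 : ℤ) ≤ ∑ θ, m θ * m θ := by
      simp only [nsmul_eq_mul] at h5
      omega
    exact_mod_cast h7
  rw [← Finset.add_sum_erase _ _ (Finset.mem_univ (1 : C)), OneMemClass.coe_one, h1] at h4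
  have h7 : Complex.normSq 1215 = 1476225 := by
    rw [show (1215 : ℂ) = ((1215 : ℝ) : ℂ) by norm_num, Complex.normSq_ofReal]
    norm_num
  rw [h7] at h4
  linarith

/-- a faithful character of `3.J₃` of odd degree different from `1215` -/
theorem j3_odd {K S : Type} [Group K] [Finite K] [Group S] {σ : K →* S} (hs : Function.Surjective σ)
    (hk : σ.ker = center K) (hc : Nat.card (center K) = 3) (hp : commutator K = ⊤) (h : Spor.IsoJ3 S) :
    ∃ n, Fd K n ∧ ¬ 2 ∣ n ∧ n ≠ 1215 := by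
  classical
  have : Fact (Nat.Prime 17) := ⟨by norm_num⟩
  have : Fact (Nat.Prime 3) := ⟨Nat.prime_three⟩
  have := Finite.of_surjective σ hs
  have hE : H86.TI.Ext (center K) σ := ⟨hs, hk, le_rfl, hc⟩
  obtain ⟨lam, hl, hF⟩ := exists_lam Nat.prime_three hc
  obtain ⟨T, hm, hr, hT⟩ := J3.exists_tab h
  have := finite_irr (G := K)
  have := Fintype.ofFinite (IrrCharacter K)
  let l : K → ℂ := fun x => if hx : x ∈ center K then lam ⟨x, hx⟩ else 0
  have hlm : ∀ z : center K, l z = lam z := fun z => dif_pos z.2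
  have h8 := MK.S2.kk_j3 h hs hk hc hp (l := l) (m := lam) (fun z hz h1 => by
    rcases (lam.ker).eq_bot_or_eq_top_of_prime_card (hp := ⟨hc ▸ Nat.prime_three⟩) with h2 | h2
    · have h3 : (⟨z, hz⟩ : center K) ∈ lam.ker := Units.ext ((hlm ⟨z, hz⟩).symm.trans h1)
      rw [h2] at h3
      exact congrArg Subtype.val h3
    · exact absurd (MonoidHom.ext fun x => MonoidHom.mem_ker.1 (h2.ge (mem_top x))) hl) hlm
  rw [MK.kk_top] at h8
  let Y := Finset.univ.filter fun χ : IrrCharacter K =>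
    Odd (charDegree (χ : K → ℂ)) ∧ ∀ z : center K, (χ : K → ℂ) z = lam z * (χ : K → ℂ) 1
  have hY : Y.card = 8 := by
    rw [← h8, ← Fintype.card_subtype, ← Nat.card_eq_fintype_card]
    exact Nat.card_congr
      { toFun := fun χ => ⟨χ.1.1, ⟨χ.1.2, χ.2.1⟩, fun z hz => (χ.2.2 ⟨z, hz⟩).trans (by rw [← hlm])⟩
        invFun := fun χ => ⟨⟨χ.1, χ.2.1.1⟩, χ.2.1.2, fun z => (χ.2.2 z z.2).trans (by rw [hlm])⟩
        left_inv := fun _ => rfl
        right_inv := fun _ => rfl }
  by_contra h0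
  have h1 : ∀ χ ∈ Y, (χ : K → ℂ) 1 = 1215 := fun χ hχ => by
    obtain ⟨h1, h2⟩ := (Finset.mem_filter.1 hχ).2
    have h3 : charDegree (χ : K → ℂ) = 1215 := by_contra fun h3 =>
      h0 ⟨_, hF χ h2, Nat.two_dvd_ne_zero.2 (Nat.odd_iff.1 h1), h3⟩
    rw [Blocks.Basic.irr_one_eq_charDegree χ.2, h3]
    norm_num
  obtain ⟨y, hy⟩ := exists_prime_orderOf_dvd_card' (G := K) 17 (by rw [hE.card_E, hm.1]; decide)
  have := Fintype.ofFinite (zpowers y)
  have hC : Nat.card (zpowers y) = 17 := by rw [Nat.card_zpowers, hy]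
  have h2 : ∀ c ∈ Finset.univ.erase (1 : zpowers y), ∑ χ ∈ Y, Complex.normSq ((χ : K → ℂ) c) ≤ 17 := fun c hc1 => by
    have h3 : (c : K) ^ 17 = 1 := by
      rw [← hC]
      exact congrArg Subtype.val (pow_card_eq_one' (x := c))
    have h4 : orderOf (σ c) = 17 := orderOf_eq_prime (by rw [← map_pow, h3, map_one]) fun h4 =>
      (Finset.mem_erase.1 hc1).1 (Subtype.ext (hE.eq_one_of_pow (hE.mem_iff.2 h4) (by norm_num) h3))
    have h5 : T.ty (σ c) = 12 := (by decide +kernel : ∀ s < J3.dat.n, 17 = J3.dat.ord s → s = 12) _ (T.lt _)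
      (h4.symm.trans (T.ord _))
    have h6 := KM.Sp.card_dvd_cbg (KM.Sp.Hy.nil hm hT) (σ c) (List.range 14)
    have h7 := KM.Sp.rat_dvd hm hr (σ c)
    rw [h5] at h6 h7
    rw [show KM.Sp.cbg J3.dat J3.tab [] 12 (List.range 14) = 51 by decide +kernel] at h6
    rw [show (J3.dat.ord 12).totient * J3.dat.N = J3.dat.cnt 12 * 136 by decide +kernel,
      Nat.mul_dvd_mul_iff_left (by decide +kernel)] at h7
    have h9 : Nat.card (centralizer ({σ c} : Set S)) ≤ 17 := Nat.le_of_dvd (by norm_num) (Nat.dvd_gcd h6 h7)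
    have h10 := hE.col_self lam (hE.good_of_pow (by norm_num) h3) rfl
    simp only [Complex.mul_conj] at h10
    have h11 : ∑ χ ∈ Finset.univ.filter (fun χ : IrrCharacter K => H407.TI.Over (center K) lam (χ : K → ℂ)),
        Complex.normSq ((χ : K → ℂ) c) = Nat.card (centralizer ({σ c} : Set S)) := by exact_mod_cast h10
    refine (Finset.sum_le_sum_of_subset_of_nonneg (fun χ hχ => Finset.mem_filter.2 ⟨Finset.mem_univ _, fun z g => ?_⟩)
      fun _ _ _ => Complex.normSq_nonneg _).trans (h11.le.trans (by exact_mod_cast h9))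
    rw [H407.TI.central_mul χ.2 (fun g => (mem_center_iff.1 z.2 g).symm) g, (Finset.mem_filter.1 hχ).2.2 z,
      mul_div_assoc, div_self (isIrr_apply_one_ne_zero χ.2), mul_one]
  have h3 := Finset.sum_le_sum h2
  have h4 := Finset.sum_le_sum fun χ hχ => par17 χ.2 (h1 χ hχ) (zpowers y) hC
  rw [Finset.sum_comm] at h4
  rw [Finset.sum_const, Finset.card_erase_of_mem (Finset.mem_univ _), Finset.card_univ, ← Nat.card_eq_fintype_card,
    hC] at h3
  rw [Finset.sum_const, hY] at h4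
  have h5 := h4.trans h3
  norm_num at h5

theorem j3_3_2T : ∀ (S : Type) [Group S] [Finite S], Spor.IsoJ3 S → Cov XT 3 2 S := by
  have := Fact.mk Nat.prime_two
  have := Fact.mk Nat.prime_three
  intro S _ _ h K _ _ σ M B D H hc
  obtain ⟨n, h1, h2, h3⟩ := j3_odd H.surj H.ker hc H.qs.1.commutator_eq_top h
  obtain ⟨T, hm, hr, hT⟩ := J3.exists_tab h
  exact h1.xt (fd_dz (r := 3) H hc hm hT 10 5 1215 (by decide +kernel)) H (H.rt_of_ra (j3_ra h)) h2 (by decide) h3

end Cfsg.Agent.BZ.C3
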