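import Cfsg.Agent.BZ.C5.Eng
import Cfsg.Agent.BZ.C2.Main
import Cfsg.Agent.BZ.T.Count
import Cfsg.Agent.H657.BrauerFeit

/-!
# BZ, covers: the characters over one block of the quotient (helper43)

* `split` : the characters over the block of `φ`, and the others; `fdb` : the search of helper53 inside one block;
* `dz_two` : a second degree, if there is only one character of defect zero; `defcl` : the defect class.
-/

set_option autoImplicit false
set_option maxHeartbeats 400000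
set_option linter.unusedSectionVars false

namespace Cfsg.Agent.BZ.C3

open Cfsg Subgroup Cfsg.Agent.Characters.Core Cfsg.Agent.OddOrderCharacters.VChar Cfsg.Agent.KM.Sp
open Cfsg.Agent.TAB.Eng Cfsg.Agent.TAB.Use Cfsg.Agent.BZ.C5 Cfsg.Agent.BZ.Comp Cfsg.Agent.Blocks.Basic
open Cfsg.Agent.H613.RegGram Cfsg.Agent.Blocks.Blau Cfsg.Agent.H644.CentralQuot Cfsg.Agent.H447.CTab
open scoped ComplexConjugate

variable {r : ℕ} [hr : Fact r.Prime] {K S : Type} [Group K] [Group S] [Finite K] {σ : K →* S}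

/-- the characters of `K` over the block of `φ`, and the others -/
theorem split [Fintype S] (h : Ext r σ) {φ : S → ℂ} (hφ : IsIrrCharacter S φ)
    (h2 : ∀ θ, IsIrrCharacter S θ → rg r φ θ ≠ 0 → (charDegree φ).factorization r ≤ (charDegree θ).factorization r)
    (χ : IrrCharacter K) :
    ∃ (ι : Type) (_ : Fintype ι) (θ : ι → S → ℂ) (m : ι → ℤ), (∀ i, IsIrrCharacter S (θ i)) ∧
      (∀ s, ¬ r ∣ orderOf s → (χ : K → ℂ) s = (∑ i, (m i : ℂ) • θ i) (σ s)) ∧
      ((∀ i, rg r φ (θ i) = 0) ∨ ∀ i, rg r φ (θ i) ≠ 0) := by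
  classical
  have := Fintype.ofFinite K
  have := Fintype.ofFinite (K ⧸ σ.ker)
  have := finite_irr (G := K ⧸ σ.ker)
  obtain ⟨M, hM⟩ := Blocks.ExistsModular.exists_isPModular hr.out
  have := hM.2.1.isPrime
  have hb := isPBlock_blockOf (M := M) χ
  have hd := isPBlock_defl hM h.cen h.pg hb
  have := Fintype.ofFinite (defl σ.ker (blockOf M (χ : K → ℂ)))
  obtain ⟨m, hm⟩ := H658.exists_int_defl hM h.cen h.pg hb (mem_blockOf_self χ)
  obtain ⟨θ₀, h₀, h0⟩ := Blocks.HeightZeroSection.exists_height_zero (exists_mem_defl hM h.pg hb) r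
  let e := QuotientGroup.quotientKerEquivOfSurjective σ h.surj
  let φ' : IrrCharacter (K ⧸ σ.ker) := ⟨φ ∘ e, isIrr_comp e.toMonoidHom e.surjective hφ⟩
  have hi : ∀ θ : IrrCharacter (K ⧸ σ.ker), IsIrrCharacter S ((θ : K ⧸ σ.ker → ℂ) ∘ e.symm) := fun θ =>
    isIrr_comp e.symm.toMonoidHom e.symm.surjective θ.2
  have key : ∀ θ : K ⧸ σ.ker → ℂ, rg r φ (θ ∘ e.symm) = rg r (φ' : K ⧸ σ.ker → ℂ) θ := fun θ => by
    rw [rg_eq_classInner, rg_eq_classInner, ← H829.GowDesc.classInner_comp_surj e.toMonoidHom e.surjective]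
    congr 1
    · funext g
      by_cases hg : r ∣ orderOf g
      · rw [regPart_of_dvd hg]
        exact regPart_of_dvd (by rwa [MulEquiv.coe_toMonoidHom, e.orderOf_eq])
      · rw [regPart_of_not_dvd hg]
        exact regPart_of_not_dvd (by rwa [MulEquiv.coe_toMonoidHom, e.orderOf_eq])
    · exact funext fun x => congrArg _ (e.symm_apply_apply x)
  refine ⟨defl σ.ker (blockOf M (χ : K → ℂ)), inferInstance, fun θ => (θ.1 : K ⧸ σ.ker → ℂ) ∘ e.symm, m, fun θ => hi θ.1,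
    fun s hs => ?_, or_iff_not_imp_left.2 fun h3 θ => ?_⟩
  · have h3 : e.symm (σ s) = QuotientGroup.mk s := e.symm_apply_eq.2 rfl
    rw [hm s hs, Finset.sum_apply]
    exact Finset.sum_congr rfl fun θ _ => congrArg (fun x => (m θ : ℂ) * (θ.1 : K ⧸ σ.ker → ℂ) x) h3.symm
  · obtain ⟨θ₁, h3⟩ := not_forall.1 h3
    have h4 : φ' ∈ defl σ.ker (blockOf M (χ : K → ℂ)) := by_contra fun h4 =>
      h3 ((key _).trans (rg_eq_zero' hM hd h4 θ₁.2))
    have h5 := h2 _ (hi θ₀) fun h5 => link hM hd h₀ h0 h4 (by rw [← conj_rg, ← key, h5, map_zero])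
    rw [key]
    refine link hM hd h4 ?_ θ.2
    rw [blockHeight_def] at h0 ⊢
    rw [charDegree_def (_ ∘ _), Function.comp_apply, map_one, ← charDegree_def] at h5
    rw [charDegree_def (φ' : K ⧸ σ.ker → ℂ)]
    change Nat.factorization ⌊(φ (e 1)).re⌋₊ r - _ = 0
    rw [map_one, ← charDegree_def]
    omega

/-- the multiplicity of the character `j` in a combination of relations -/
def mlt (R : Rows) (c : List (ℤ × ℕ)) (j : ℕ) : ℤ :=
  (c.map fun x => x.1 * ((rl R x.2).1.map fun z => if z.1 = j then z.2 else 0).sum).sum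

variable {D : Dat} {T : TD S D} {R : Rows}

theorem inner_psi [Fintype S] {χ : ℕ → S → ℂ} (hE : Enum S R.n R.d χ) (hR : Rel T R χ) {c : List (ℤ × ℕ)}
    (h : ∀ x ∈ c, ∀ z ∈ (rl R x.2).1, z.1 < R.n) {j : ℕ} (hj : j < R.n) :
    classInner (fun g => (psi R c (T.ty g) : ℂ)) (χ j) = mlt R c j := by
  have h0 : ∀ l : List (ℕ × ℤ), (∀ z ∈ l, z.1 < R.n) → classInner (fun g => (l.map fun x => (x.2 : ℂ) * χ x.1 g).sum) (χ j) =
      ((l.map fun z => if z.1 = j then z.2 else 0).sum : ℤ) := fun l hl => by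
    induction l with
    | nil => simp [classInner]
    | cons z l ih =>
      have h1 := hl z List.mem_cons_self
      rw [List.map_cons, List.sum_cons, Int.cast_add, ← ih fun z hz => hl z (List.mem_cons_of_mem _ hz)]
      refine (classInner_add_left ((z.2 : ℂ) • χ z.1) _ _).trans (congrArg (· + _) ?_)
      rw [classInner_smul_left]
      split_ifs with e
      · rw [e, classInner_irr_self (hE.irr j hj), mul_one]
      · rw [classInner_irr_ne (hE.irr _ h1) (hE.irr j hj) fun e' => e (hE.inj _ h1 _ hj e'), mul_zero, Int.cast_zero]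
  induction c with
  | nil => simp [classInner, psi, mlt]
  | cons x c ih =>
    have h1 := h0 _ (h x List.mem_cons_self)
    simp only [rel_rl hR] at h1
    have h2 : (fun g => (psi R (x :: c) (T.ty g) : ℂ)) =
        (x.1 : ℂ) • (fun g => (((rl R x.2).2.getD (T.ty g) 0 : ℤ) : ℂ)) + fun g => (psi R c (T.ty g) : ℂ) :=
      funext fun g => by
        change ((x.1 * (rl R x.2).2.getD (T.ty g) 0 + psi R c (T.ty g) : ℤ) : ℂ) = _
        rw [Int.cast_add, Int.cast_mul]
        rfl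
    rw [h2, classInner_add_left, classInner_smul_left, h1, ih fun x hx => h x (List.mem_cons_of_mem _ hx)]
    exact_mod_cast rfl

/-- the data of a block : `cf` vanish on the singular types, `w` is `c` times the regular part of the character `j` -/
abbrev okB (D : Dat) (R : Rows) (r : ℕ) (cf : List (List (ℤ × ℕ))) (G : List (List ℤ)) (n : ℕ) (e : List ℤ) (m : ℕ)
    (w : List (ℤ × ℕ)) (c a j s : ℕ) : Prop :=
  (∀ v ∈ w :: cf, ∀ x ∈ v, ∀ z ∈ (rl R x.2).1, z.1 < R.n) ∧ (∀ v ∈ cf, ∀ t < D.n, r ∣ D.ord t → psi R v t = 0) ∧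
  (∀ i < n, ∀ k < n, ipF D (psi R (cf.getD i [])) (psi R (cf.getD k [])) = D.N * nth (ntd G [] i) k) ∧
  ((rl R a).1 = [(j, 1)] ∧ j < R.n ∧ c ≠ 0 ∧ ¬ r ^ (s + 1) ∣ R.d j ∧
    ∀ t < D.n, psi R w t = if r ∣ D.ord t then 0 else c * (rl R a).2.getD t 0) ∧
  ∀ i < R.n, (mlt R w i = 0 ∧ ∀ v ∈ cf, mlt R v i = 0) ∨
    (mlt R w i ≠ 0 ∧ r ^ s ∣ R.d i ∧ dt e (rev (fun k => mlt R (cf.getD k []) i) n) = (m * R.d i : ℕ))

variable {p : ℕ} [hp : Fact p.Prime] {M : Ideal AlgInt} {B : Set (IrrCharacter K)} {E : Subgroup K}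

/-- **a faithful character over a block of the quotient whose degree has the property `P`** -/
theorem fdb (H : Hyp p M B E σ) (hc : Nat.card (center K) = r) (hm : T.Mass) (hT : Tab T R) {cf : List (List (ℤ × ℕ))}
    {G : List (List ℤ)} {lv : List Lv} {e : List ℤ} {m : ℕ} {w : List (ℤ × ℕ)} {c a j s : ℕ}
    (h0 : okB D R r cf G lv.length e m w c a j s) {L : ℕ} (h1 : okL G L lv = true) (hm0 : 0 < m)
    {QL : List (List ℤ × List ℤ)} {P : ℕ → Bool} (h2 : okQ G L lv QL (fun xs => !(pd e m (D.N * r) r P xs)) = true) :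
    ∃ n, C2.Fd K n ∧ P n = true := by
  classical
  have := Fintype.ofFinite K
  have := Finite.of_surjective σ H.surj
  have := Fintype.ofFinite S
  have := finite_irr (G := K)
  have := Fintype.ofFinite (IrrCharacter K)
  obtain ⟨a1, a2, a3, ⟨a4, a5, a6, a7, a8⟩, a9⟩ := h0
  have h := C1.ext H hc
  obtain ⟨ν, hν⟩ := C1.exists_nu H hr.out hc
  have hv : ∀ i, cf.getD i [] = [] ∨ cf.getD i [] ∈ cf := fun i => by
    by_cases hi : i < cf.length
    · rw [List.getD_eq_getElem _ _ hi]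
      exact .inr (List.getElem_mem _)
    · exact .inl (List.getD_eq_default _ _ (not_lt.1 hi))
  have hl : ∀ i, ∀ x ∈ cf.getD i [], ∀ z ∈ (rl R x.2).1, z.1 < R.n := fun i x hx =>
    (hv i).elim (fun e => absurd (e ▸ hx) List.not_mem_nil) fun e => a1 _ (List.mem_cons_of_mem _ e) x hx
  choose Φ h3 h4 using fun i => exists_up h ν (virt_psi hT (hl i)) fun g hg => by
    rcases hv i with h5 | h5
    · rw [h5]
      exact Int.cast_zero
    · rw [a2 _ h5 _ (T.lt g) (T.ord g ▸ hg), Int.cast_zero]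
  obtain ⟨χ, h5, h6⟩ := comb_core (fun i χ => mu (h3 i) χ) (fun i hi k hk => by
    exact_mod_cast (inner_sum_mu (h3 i) (h3 k)).symm.trans (((h4 i).inner h (h4 k)).trans
      (inner_of_ipF hm (a3 i hi k hk)))) h1 h2
  have ho : Comp.Ov σ ν χ := by
    obtain ⟨i, hi⟩ := not_forall.1 h5
    exact (h4 i).ov h χ.2 (by rw [inner_mu (h3 i)]; exact_mod_cast hi)
  obtain ⟨φ, hE, hR⟩ := hT
  have b1 : ∀ i < R.n, (c : ℂ) * rg r (φ j) (φ i) = mlt R w i := fun i hi => by
    rw [← inner_psi hE hR (a1 w List.mem_cons_self) hi, rg_eq_classInner, ← classInner_smul_left]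
    congr 1
    funext g
    have b2 := rel_rl hR a g
    rw [a4, List.map_singleton, List.sum_singleton, Int.cast_one, one_mul] at b2
    rw [a8 _ (T.lt g), ← T.ord, Pi.smul_apply]
    split_ifs with hg
    · rw [regPart_of_dvd hg, smul_zero, Int.cast_zero]
    · rw [regPart_of_not_dvd hg, b2, Int.cast_mul, Int.cast_natCast, smul_eq_mul]
  have b2 : ∀ i < R.n, charDegree (φ i) = R.d i := fun i hi => charDegree_of_eq (hE.deg i hi)
  have b3 : ∀ i < R.n, rg r (φ j) (φ i) ≠ 0 → mlt R w i ≠ 0 := fun i hi h7 h8 =>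
    mul_ne_zero (Nat.cast_ne_zero.2 a6) h7 ((b1 i hi).trans (by rw [h8, Int.cast_zero]))
  obtain ⟨ι, _, θ, μ, c1, c2, c3⟩ := split h (hE.irr j a5) (fun θ hθ h7 => by
    obtain ⟨i, hi, rfl⟩ := hE.all θ hθ
    have h8 := (hr.out.pow_dvd_iff_le_factorization (charDegree_pos hθ).ne').1
      (b2 i hi ▸ ((a9 i hi).resolve_left fun h8 => b3 i hi h7 h8.1).2.1)
    have h9 := (hr.out.pow_dvd_iff_le_factorization (charDegree_pos (hE.irr j a5)).ne').not.1 (b2 j a5 ▸ a7)
    omega) χ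
  choose ix c4 c5 using fun i => hE.all _ (c1 i)
  have c6 : ∀ k, ∑ i, mlt R (cf.getD k []) (ix i) * μ i = 1 * mu (h3 k) χ := fun k => Int.cast_injective (α := ℂ) (by
    rw [one_mul, ← inner_mu, (h4 k).inner_irr h χ.2 ho c2, classInner_sum_right, Int.cast_sum]
    exact Finset.sum_congr rfl fun i _ => by
      rw [classInner_smul_right, c5, inner_psi hE hR (hl k) (c4 i), map_intCast, Int.cast_mul, mul_comm])
  have c7 : dt e (rev (fun k => mu (h3 k) χ) lv.length) = (m * charDegree (χ : K → ℂ) : ℕ) := by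
    rcases c3 with c3 | c3
    · refine absurd (fun k => ?_) h5
      rw [← one_mul (mu _ _), ← c6]
      refine Finset.sum_eq_zero fun i _ => mul_eq_zero_of_left ?_ _
      have c7 := (a9 _ (c4 i)).resolve_right fun c7 => c7.1 (Int.cast_injective (α := ℂ) (by
        rw [← b1 _ (c4 i), ← c5, c3, mul_zero, Int.cast_zero]))
      exact (hv k).elim (fun e => by rw [e]; rfl) (c7.2 _)
    · have c7 := dt_sum (R := ℤ) (fun k i => mlt R (cf.getD k []) (ix i)) μ (fun k => mu (h3 k) χ) 1 lv.length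
        (fun k _ => c6 k) e
      have c8 := c2 1 reg_one
      rw [map_one, Finset.sum_apply, irr_one_eq_charDegree χ.2] at c8
      refine Int.cast_injective (α := ℂ) ?_
      rw [one_mul] at c7
      simp only [Int.cast_id] at c7
      rw [← c7, Int.cast_natCast, Nat.cast_mul, c8, Int.cast_sum, Finset.mul_sum]
      refine Finset.sum_congr rfl fun i _ => ?_
      rw [((a9 _ (c4 i)).resolve_left fun c9 => b3 _ (c4 i) (c5 i ▸ c3 i) c9.1).2.2, Pi.smul_apply, c5, hE.deg _ (c4 i),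
        smul_eq_mul]
      push_cast
      ring
  refine ⟨_, ⟨χ, hν χ ho, rfl⟩, ?_⟩
  have d1 := dvd_deg h H.qs.1.commutator_eq_top (H.ker ▸ hc) (H.ker ▸ hν χ ho)
  have d2 := H669.Basic.charDegree_dvd_card χ.2
  rw [H.card_eq, hm.1, hc] at d2
  rw [pd, c7] at h6
  have d3 : (!frc (m * charDegree (χ : K → ℂ)) fun y => Nat.beq (y % m) 0 && frc (y / m) fun d =>
    Nat.beq (D.N * r % d) 0 && Nat.beq (d % r) 0 && !(P d)) = true := h6
  rw [frc_eq, frc_eq, Nat.mul_mod_right, Nat.mul_div_cancel_left _ hm0, Nat.mod_eq_zero_of_dvd d1,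
    Nat.mod_eq_zero_of_dvd d2] at d3
  simpa using d3

/-- a character whose degree has the largest possible `r`-part -/
theorem reg_dz (h : Ext r σ) (hc : Nat.card σ.ker = r) {φ : S → ℂ} {e : ℕ} (he : (Nat.card S).factorization r = e)
    (hφ : ∀ θ, IsIrrCharacter S θ → r ^ e ∣ charDegree θ → θ = φ) (χ : IrrCharacter K) (hχ : r ^ e ∣ charDegree (χ : K → ℂ)) :
    ∃ m : ℤ, ∀ s, ¬ r ∣ orderOf s → (χ : K → ℂ) s = m * φ (σ s) := by
  classical
  have := Fintype.ofFinite K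
  have := finite_irr (G := K ⧸ σ.ker)
  obtain ⟨M, hM⟩ := Blocks.ExistsModular.exists_isPModular hr.out
  have := hM.2.1.isPrime
  have hb := isPBlock_blockOf (M := M) χ
  have := Fintype.ofFinite (defl σ.ker (blockOf M (χ : K → ℂ)))
  obtain ⟨m, hm⟩ := H658.exists_int_defl hM h.cen h.pg hb (mem_blockOf_self χ)
  let f := QuotientGroup.quotientKerEquivOfSurjective σ h.surj
  have h1 := blockDefect_defl hM h.cen (t := 1) (by rw [hc, pow_one]) hb
  have h2 : blockDefect r (blockOf M (χ : K → ℂ)) ≤ 1 := by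
    have h2 := H657.BrauerFeit.height_add_two_le hM hb (mem_blockOf_self χ)
    have h3 := (hr.out.pow_dvd_iff_le_factorization (charDegree_pos χ.2).ne').1 hχ
    have h4 : (Nat.card K).factorization r = e + 1 := by
      rw [card_eq_card_quotient_mul_card_subgroup σ.ker, Nat.factorization_mul Nat.card_pos.ne' Nat.card_pos.ne',
        Finsupp.add_apply, Nat.card_congr f.toEquiv, he, hc, hr.out.factorization_self]
    rw [blockHeight_def, blockDefect_def, h4] at h2
    rw [blockDefect_def, h4]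
    omega
  refine ⟨∑ θ, m θ, fun s hs => ?_⟩
  rw [hm s hs, Int.cast_sum, Finset.sum_mul]
  refine Finset.sum_congr rfl fun θ _ => ?_
  have h3 := Nat.sInf_le (s := (fun ψ : IrrCharacter (K ⧸ σ.ker) => (charDegree (ψ : K ⧸ σ.ker → ℂ)).factorization r) ''
    defl σ.ker (blockOf M (χ : K → ℂ))) ⟨θ.1, θ.2, rfl⟩
  rw [blockDefect_def r (defl _ _), Nat.card_congr f.toEquiv, he] at h1
  rw [← hφ _ (isIrr_comp f.symm.toMonoidHom f.symm.surjective θ.1.2) (by
    rw [charDegree_def, Function.comp_apply, map_one, ← charDegree_def]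
    exact (hr.out.pow_dvd_iff_le_factorization (charDegree_pos θ.1.2).ne').2 (by simp only at h3; omega))]
  exact congrArg (fun x => (m θ : ℂ) * (θ.1 : K ⧸ σ.ker → ℂ) x) (f.symm_apply_eq.2 rfl : f.symm (σ s) = QuotientGroup.mk s).symm

/-- **a second degree** -/
theorem dz_two (H : Hyp p M B E σ) (hc : Nat.card (center K) = r) (hm : T.Mass) (hT : Tab T R) (j e n : ℕ)
    (h : j < R.n ∧ R.d j = n ∧ r ^ e ∣ n ∧ r ^ e ∣ D.N ∧ ¬ r ^ (e + 1) ∣ D.N) (h1 : ∀ i < R.n, r ^ e ∣ R.d i → i = j)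
    (h2 : ¬ p ∣ n) (h3 : p ∣ D.N) : ∃ m, C2.Fd K m ∧ ¬ p ∣ m ∧ n ≠ m := by
  classical
  have := Fintype.ofFinite K
  have := Finite.of_surjective σ H.surj
  have := Fintype.ofFinite S
  have hx := C1.ext H hc
  obtain ⟨ν, hν⟩ := C2.exists_nu H hc
  obtain ⟨φ, hE, -⟩ := hT
  obtain ⟨a1, rfl, a2, a3, a4⟩ := h
  have a5 := fun g => zero_of_dz (x := g) (hE.irr j a1) (hE.deg j a1) hr.out (hm.1 ▸ a3) (hm.1 ▸ a4) a2
  obtain ⟨Φ, -, u⟩ := exists_up hx ν (gen_of_irr (hE.irr j a1)) a5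
  have b1 : ∀ χ : IrrCharacter K, Comp.Ov σ ν χ → (∀ s, ¬ r ∣ orderOf s → (χ : K → ℂ) s = φ j (σ s)) → Φ = χ :=
    fun χ o b1 => by
      have b2 := (u.inner_irr hx χ.2 o b1).trans (classInner_irr_self (hE.irr j a1))
      refine sub_eq_zero.1 (classInner_self_eq_zero ?_)
      rw [classInner_sub_left, classInner_sub_right, classInner_sub_right, ← classInner_conj_symm Φ (χ : K → ℂ), b2, u.inner hx u,
        classInner_irr_self (hE.irr j a1), classInner_irr_self χ.2, map_one]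
      ring
  obtain ⟨ψ, o, b2⟩ := dz hx ν (hE.irr j a1) a5
  have b3 : charDegree (ψ : K → ℂ) = R.d j := charDegree_of_eq (by rw [b2 1 reg_one, map_one, hE.deg j a1])
  by_contra! b4
  have b5 := BZ.T.col_gd hx.cen ψ (g := 1) (BZ.T.gd_of_coprime hx.cen (n := 1) (by rw [map_one, one_pow]) (Nat.coprime_one_left _))
  rw [(centralizer_eq_top_iff_subset (s := {1})).2 (Set.singleton_subset_iff.2 (one_mem _)), card_top, H.card_eq, H.ker,
    hm.1, Nat.cast_mul, mul_comm (D.N : ℂ), Finset.sum_congr rfl fun χ _ => by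
      rw [irr_one_eq_charDegree χ.2, map_natCast, ← Nat.cast_mul], ← Nat.cast_sum] at b5
  have b6 := Nat.cast_injective (mul_left_cancel₀ (Nat.cast_ne_zero.2 Nat.card_pos.ne') b5)
  rw [← b6, ← Finset.add_sum_erase _ _ (BZ.T.mem_Ir.2 fun _ _ => rfl : ψ ∈ BZ.T.Ir σ ψ.1), b3] at h3
  refine h2 ((hp.out.dvd_mul.1 ((Nat.dvd_add_left (Finset.dvd_sum fun χ hχ => by_contra fun b7 => ?_)).1 h3)).elim id id)
  obtain ⟨b8, b9⟩ := Finset.mem_erase.1 hχ
  have o' : Comp.Ov σ ν χ := fun z => by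
    have c1 := BZ.T.mem_Ir.1 b9 z z.2
    rwa [o z, mul_div_cancel_right₀ _ (irr_one_ne_zero ψ.2), div_eq_iff (irr_one_ne_zero χ.2)] at c1
  have c1 := b4 _ (hν χ _ o' (irr_one_eq_charDegree χ.2)) fun c1 => b7 (c1.mul_right _)
  obtain ⟨m, c2⟩ := reg_dz hx (H.ker ▸ hc) (φ := φ j) (e := e) (by
    have c2 := (hr.out.pow_dvd_iff_le_factorization (n := Nat.card S) Nat.card_pos.ne').1 (hm.1 ▸ a3)
    have c3 := (hr.out.pow_dvd_iff_le_factorization (n := Nat.card S) Nat.card_pos.ne').not.1 (hm.1 ▸ a4)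
    omega) (fun θ hθ c2 => by
      obtain ⟨i, hi, rfl⟩ := hE.all θ hθ
      rw [h1 i hi (charDegree_of_eq (hE.deg i hi) ▸ c2)]) χ (c1 ▸ a2)
  have c3 := c2 1 reg_one
  rw [map_one, irr_one_eq_charDegree χ.2, ← c1, ← hE.deg j a1, eq_comm, mul_eq_right₀ (irr_one_ne_zero (hE.irr j a1))] at c3
  exact b8 (Subtype.ext ((b1 χ o' fun s hs => by rw [c2 s hs, c3, one_mul]).symm.trans (b1 ψ o b2)))

/-- the defect class -/
theorem defcl (H : Hyp p M B E σ) : ∃ g : K, ¬ p ∣ orderOf g ∧ (∀ d ∈ E, Commute d g) ∧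
    (∀ z ∈ center K, IsConj g (g * z) → z = 1) ∧ (σ g = 1 → ∀ d, p ^ d ∣ Nat.card S → p ^ d ∣ Nat.card E) := by
  have := Blocks.Local.isPrime_of_isPModular H.hM
  obtain ⟨g, hg, P, rfl⟩ := H.hD
  refine ⟨g, H614.Spin.isPRegular_of_isDefectClass H.hM H.hB hg, ?_, fun z hz h => ?_, fun h d hd => ?_⟩
  · rintro _ ⟨w, -, rfl⟩
    exact mem_centralizer_singleton_iff.1 w.2
  · obtain ⟨χ, hχ⟩ := isPBlock_nonempty H.hB
    have h1 := irr_isConj χ.2 h
    rw [BZ.T.cen_mul χ.2 hz, eq_comm, mul_eq_right₀ fun h2 => hg.2.2 χ hχ (by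
      rw [centralChar, h2, mul_zero, zero_div]
      exact Blocks.Local.memLocalIdeal_zero), div_eq_one_iff_eq (irr_one_ne_zero χ.2)] at h1
    exact H.faith χ hχ z hz h1
  · rw [card_map_of_injective (subtype_injective _)]
    refine P.pow_dvd_card_of_pow_dvd_card ?_
    rw [(centralizer_eq_top_iff_subset (s := {g})).2 (Set.singleton_subset_iff.2 (H.ker ▸ h)), card_top]
    exact hd.trans H.ce.card_dvd

end Cfsg.Agent.BZ.C3
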