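import Cfsg.Agent.BZ.C5.Eng
import Cfsg.Agent.BZ.C4.J2
import Cfsg.Agent.MK.S2.Cov
import Cfsg.Agent.TAB.Sm2.M12

/-!
# BZ, the covers `2.M12` and `2.J2` at the prime `3` : two degrees of height zero (helper43)

* `2.M12` : the search of helper53;
* `2.J2` : the characters over the block of defect `2` for the prime `2` (`sep`, `four`).
-/

set_option autoImplicit false
set_option maxHeartbeats 400000
set_option maxRecDepth 100000
set_option linter.unusedSectionVars false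

namespace Cfsg.Agent.BZ.C3

open Cfsg Subgroup Cfsg.Agent.BZ.T Cfsg.Agent.Characters.Core Cfsg.Agent.OddOrderCharacters.VChar
open Cfsg.Agent.TAB.Eng Cfsg.Agent.TAB.Use Cfsg.Agent.BZ.C4 Cfsg.Agent.BZ.C5 Cfsg.Agent.BZ.Comp
open Cfsg.Agent.H613.RegGram Cfsg.Agent.Blocks.Blau Cfsg.Agent.H644.CentralQuot Cfsg.Agent.H447.CTab
open scoped ComplexConjugate

namespace M12T

open TAB.Sm2 TAB.Sm2.M12

/-- the virtual characters which vanish on the elements of even order -/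
def cf : List (List (ℤ × ℕ)) := [[(1, 11), (1, 12)], [(-1, 0), (-1, 3), (1, 4), (1, 10)], [(-1, 11), (1, 12), (1, 13)],
  [(-1, 0), (-1, 1), (-1, 2), (1, 4), (-1, 8), (1, 9)], [(1, 3), (1, 4), (1, 5), (1, 6), (1, 7), (1, 8), (2, 9), (2, 10)]]

/-- their values -/
noncomputable def V : List (List ℤ) := cf.map (comb ((mkRows rA rB).rel.map Prod.snd))

/-- the Gram matrix -/
def G : List (List ℤ) := [[2, 0, 0, 0, 0], [0, 4, 0, 2, 2], [0, 0, 4, 0, 0], [0, 2, 0, 6, 2], [0, 2, 0, 2, 14]]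

/-- the levels -/
def lv : List Lv := [(1, 160, [1]), (2, 80, [1, 0]), (2, 80, [1, 0, 0]), (2, 16, [2, 0, -1, 0]), (3, 1, [5, -1, 0, -2, 0])]

/-- the degree -/
def ed : List ℤ := [55, -11, 16, 10, 160]

theorem ok_V : okV dat 2 V G lv.length = true := by decide +kernel

theorem ok_L : okL G 320 lv = true := by decide +kernel

theorem ok_D : okD dat V lv.length ed 1 = true := by decide +kernel

theorem ok_1 : okQ G 320 lv [([0, 0, 0, 0, 1], [-1, 5, 2, 5, 2])]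
    (fun xs => !(pd ed 1 (dat.N * 2) 2 (fun d => decide (d % 3 ≠ 0 ∧ 160 ≤ d)) xs)) = true := by decide +kernel

theorem ok_2 : okQ G 320 lv [([0, 0, 0, 0, 1], [2, 4, 0, 4, -4]), ([0, 0, 0, 1], [0, 0, 4]), ([0, 0, 1], [-3, -3, 4])]
    (fun xs => !(pd ed 1 (dat.N * 2) 2 (fun d => decide (d % 3 ≠ 0 ∧ d < 160)) xs)) = true := by decide +kernel

end M12T

open M12T in
theorem m12_2_3T : ∀ (S : Type) [Group S] [Finite S], Spor.IsoM12 S → Cov XT 2 3 S := by
  rintro S _ _ ⟨e⟩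
  have := Fact.mk Nat.prime_three
  have := Finite.of_equiv _ e.toEquiv
  obtain ⟨T, hm, hT, -⟩ := TAB.Sm2.M12.tab
  have hV : ∀ v ∈ V, Virt T (nth v) := fun v hv => by
    obtain ⟨c, -, rfl⟩ := List.mem_map.1 hv
    exact Virt.comb (MK.S2.virt_of_tab hT (by decide +kernel)) c
  refine Cov.of_equiv e fun K _ _ σ M B E H hc => ?_
  obtain ⟨χ, h3, h4⟩ := fd H hc hm hV ok_V ok_L ok_D one_pos ok_1
  obtain ⟨ψ, h5, h6⟩ := fd H hc hm hV ok_V ok_L ok_D one_pos ok_2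
  rw [decide_eq_true_eq] at h4 h6
  exact H.not_XT_crit (m12_reg.mono (by norm_num)) χ ψ h3 h5 (by omega) (by omega) (by omega)

variable {r : ℕ} [hr : Fact r.Prime] {K S : Type} [Group K] [Group S] [Finite K] {σ : K →* S}

/-- the characters of `K` over the block of `φ`, and the others -/
theorem sep [Fintype S] (h : Ext r σ) {φ : S → ℂ} (hφ : IsIrrCharacter S φ)
    (h2 : ∀ θ, IsIrrCharacter S θ → rg r φ θ ≠ 0 → (charDegree θ).factorization r = (charDegree φ).factorization r)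
    (χ : IrrCharacter K) :
    ∃ (ι : Type) (_ : Fintype ι) (θ : ι → S → ℂ) (m : ι → ℤ), (∀ i, IsIrrCharacter S (θ i)) ∧
      (∀ s, ¬ r ∣ orderOf s → (χ : K → ℂ) s = (∑ i, (m i : ℂ) • θ i) (σ s)) ∧
      ((∀ i, rg r φ (θ i) = 0) ∨ ∀ i, rg r φ (θ i) ≠ 0) := by
  classical
  have := Fintype.ofFinite K
  have := Fintype.ofFinite (K ⧸ σ.ker)
  have := finite_irr (G := K ⧸ σ.ker)
  obtain ⟨M, hM⟩ := Blocks.ExistsModular.exists_isPModular hr.out
  have := hM.2.1.isPrime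
  have hb := Blocks.Basic.isPBlock_blockOf (M := M) χ
  have hd := isPBlock_defl hM h.cen h.pg hb
  have := Fintype.ofFinite (defl σ.ker (blockOf M (χ : K → ℂ)))
  obtain ⟨m, hm⟩ := H658.exists_int_defl hM h.cen h.pg hb (Blocks.Basic.mem_blockOf_self χ)
  obtain ⟨θ₀, h₀, h0⟩ := Blocks.HeightZeroSection.exists_height_zero (exists_mem_defl hM h.pg hb) r
  let e := QuotientGroup.quotientKerEquivOfSurjective σ h.surj
  let φ' : IrrCharacter (K ⧸ σ.ker) := ⟨φ ∘ e, isIrr_comp e.toMonoidHom e.surjective hφ⟩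
  have hi : ∀ θ : IrrCharacter (K ⧸ σ.ker), IsIrrCharacter S ((θ : K ⧸ σ.ker → ℂ) ∘ e.symm) := fun θ =>
    isIrr_comp e.symm.toMonoidHom e.symm.surjective θ.2
  have key : ∀ θ : K ⧸ σ.ker → ℂ, rg r φ (θ ∘ e.symm) = rg r (φ' : K ⧸ σ.ker → ℂ) θ := fun θ => by
    rw [rg_eq_classInner, rg_eq_classInner, ← H829.GowDesc.classInner_comp_surj e.toMonoidHom e.surjective]
    congr 1
    · funext g
      by_cases hg : r ∣ orderOf g
      · rw [regPart_of_dvd hg]
        exact regPart_of_dvd (by rwa [MulEquiv.coe_toMonoidHom, e.orderOf_eq])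
      · rw [regPart_of_not_dvd hg]
        exact regPart_of_not_dvd (by rwa [MulEquiv.coe_toMonoidHom, e.orderOf_eq])
    · exact funext fun x => congrArg _ (e.symm_apply_apply x)
  refine ⟨defl σ.ker (blockOf M (χ : K → ℂ)), inferInstance, fun θ => (θ.1 : K ⧸ σ.ker → ℂ) ∘ e.symm, m, fun θ => hi θ.1,
    fun s hs => ?_, or_iff_not_imp_left.2 fun h3 θ => ?_⟩
  · have h3 : e.symm (σ s) = QuotientGroup.mk s := e.symm_apply_eq.2 rfl
    rw [hm s hs, Finset.sum_apply]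
    exact Finset.sum_congr rfl fun θ _ => congrArg (fun x => (m θ : ℂ) * (θ.1 : K ⧸ σ.ker → ℂ) x) h3.symm
  · obtain ⟨θ₁, h3⟩ := not_forall.1 h3
    have h4 : φ' ∈ defl σ.ker (blockOf M (χ : K → ℂ)) := by_contra fun h4 =>
      h3 ((key _).trans (rg_eq_zero' hM hd h4 θ₁.2))
    have h5 := h2 _ (hi θ₀) fun h5 => link hM hd h₀ h0 h4 (by rw [← conj_rg, ← key, h5, map_zero])
    rw [key]
    refine link hM hd h4 ?_ θ.2
    rw [Blocks.Basic.blockHeight_def] at h0 ⊢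
    rw [Blocks.Basic.charDegree_def, Function.comp_apply, map_one, ← Blocks.Basic.charDegree_def] at h5
    rw [Blocks.Basic.charDegree_def (φ' : K ⧸ σ.ker → ℂ)]
    change Nat.factorization ⌊(φ (e 1)).re⌋₊ r - _ = 0
    rwa [map_one, ← Blocks.Basic.charDegree_def, ← h5]

theorem four_num {ι : Type} [Fintype ι] (a b : ι → ℤ) (d : ι → ℕ) (ha : ∑ i, a i * a i = 2) (hab : ∑ i, a i * b i = 0)
    (hb : ∑ i, b i * b i = 4) (hd : ∀ i, a i ≠ 0 ∨ b i ≠ 0 → 0 < d i ∧ (d i : ℤ) = 64 * a i + 224 * b i) :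
    ∃ i j, (a i ≠ 0 ∨ b i ≠ 0) ∧ (a j ≠ 0 ∨ b j ≠ 0) ∧ ¬ 3 ∣ d i ∧ ¬ 3 ∣ d j ∧ d i ≠ d j := by
  have bd : ∀ i, 2 * (a i * a i) + b i * b i ≤ 4 := fun i => by
    have h1 := Finset.single_le_sum (f := fun j => (2 * a i * a j + b i * b j) ^ 2) (fun _ _ => sq_nonneg _) (Finset.mem_univ i)
    have h2 : ∑ j, (2 * a i * a j + b i * b j) ^ 2 =
        4 * (a i * a i) * ∑ j, a j * a j + 4 * (a i * b i) * ∑ j, a j * b j + b i * b i * ∑ j, b j * b j := by
      simp only [Finset.mul_sum, ← Finset.sum_add_distrib]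
      exact Finset.sum_congr rfl fun j _ => by ring
    rw [h2, ha, hab, hb] at h1
    nlinarith
  have cs : ∀ i, (a i = 0 ∧ b i = 0) ∨ (a i = 1 ∧ b i = 0 ∧ d i = 64) ∨ (a i = -1 ∧ b i = 1 ∧ d i = 160) ∨
      (a i = 1 ∧ b i = 1) ∨ (a i = 0 ∧ b i = 1 ∧ d i = 224) ∨ (a i = 0 ∧ b i = 2 ∧ d i = 448) := fun i => by
    have h1 := bd i
    have h2 := hd i
    have h3 : -1 ≤ a i ∧ a i ≤ 1 := ⟨by nlinarith, by nlinarith⟩
    have h4 : -2 ≤ b i ∧ b i ≤ 2 := ⟨by nlinarith, by nlinarith⟩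
    generalize a i = x at *
    generalize b i = y at *
    obtain ⟨h3, h5⟩ := h3
    obtain ⟨h4, h6⟩ := h4
    interval_cases x <;> interval_cases y <;> omega
  obtain ⟨i, -, hi⟩ := Finset.exists_lt_of_sum_lt (s := Finset.univ) (f := fun i => a i * b i) (g := fun i => a i * a i)
    (by rw [ha, hab]; norm_num)
  obtain ⟨j, -, hj⟩ := Finset.exists_lt_of_sum_lt (s := Finset.univ) (f := fun i => a i * a i) (g := fun i => b i * b i)
    (by rw [ha, hb]; norm_num)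
  have h1 : (a i ≠ 0 ∨ b i ≠ 0) ∧ (d i = 64 ∨ d i = 160) := by
    rcases cs i with h | h | h | h | h | h <;> simp_all
  have h2 : (a j ≠ 0 ∨ b j ≠ 0) ∧ (d j = 224 ∨ d j = 448) := by
    rcases cs j with h | h | h | h | h | h <;> simp_all
  exact ⟨i, j, h1.1, h2.1, by omega, by omega, by omega⟩

/-- a block with the degrees `160, 288, 224, 224` -/
theorem four (h : Ext 2 σ) (ν : σ.ker →* ℂˣ) (φ : Fin 4 → S → ℂ) (hφ : ∀ j, IsIrrCharacter S (φ j))
    (hi : Function.Injective φ) (hd : ∀ j, φ j 1 = (![160, 288, 224, 224] j : ℕ))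
    (hA : ∀ g, ¬ 2 ∣ orderOf g → φ 0 g + φ 1 g = φ 2 g + φ 3 g)
    (hB : ∀ g, 2 ∣ orderOf g → φ 1 g - φ 0 g = 0 ∧ φ 0 g + φ 1 g + (φ 2 g + φ 3 g) = 0) :
    ∃ χ ψ : IrrCharacter K, Comp.Ov σ ν χ ∧ Comp.Ov σ ν ψ ∧ ¬ 3 ∣ charDegree (χ : K → ℂ) ∧ ¬ 3 ∣ charDegree (ψ : K → ℂ) ∧
      charDegree (χ : K → ℂ) ≠ charDegree (ψ : K → ℂ) := by
  classical
  have := Fintype.ofFinite K
  have := Finite.of_surjective σ h.surj
  have := Fintype.ofFinite S
  have := finite_irr (G := K)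
  have := Fintype.ofFinite (IrrCharacter K)
  have g := fun j => gen_of_irr (hφ j)
  obtain ⟨Φ, gΦ, u⟩ := exists_up (Ψ := φ 1 - φ 0) h ν (gen_sub (g 1) (g 0)) fun x hx => (hB x hx).1
  obtain ⟨Ψ, gΨ, v⟩ := exists_up (Ψ := φ 0 + φ 1 + (φ 2 + φ 3)) h ν (gen_add (gen_add (g 0) (g 1)) (gen_add (g 2) (g 3)))
    fun x hx => (hB x hx).2
  have ort : ∀ i j, classInner (φ i) (φ j) = if i = j then 1 else 0 := fun i j => by
    split_ifs with e
    · rw [e, classInner_irr_self (hφ j)]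
    · exact classInner_irr_ne (hφ i) (hφ j) fun e' => e (hi e')
  have hW : ∀ θ, 4 * rg 2 (φ 0) θ = classInner (φ 0 + φ 1 + (φ 2 + φ 3)) θ - 2 * classInner (φ 1 - φ 0) θ := fun θ => by
    rw [rg_eq_classInner, ← classInner_smul_left, ← classInner_smul_left, ← classInner_sub_left]
    congr 1
    funext x
    by_cases hx : 2 ∣ orderOf x
    · simp only [Pi.smul_apply, Pi.sub_apply, Pi.add_apply, regPart_of_dvd hx, (hB x hx).1, (hB x hx).2, smul_zero, sub_zero]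
    · simp only [Pi.smul_apply, Pi.sub_apply, Pi.add_apply, regPart_of_not_dvd hx, ← hA x hx, smul_eq_mul]
      ring
  have cs : ∀ θ, IsIrrCharacter S θ →
      (rg 2 (φ 0) θ = 0 ∧ classInner (φ 1 - φ 0) θ = 0 ∧ classInner (φ 0 + φ 1 + (φ 2 + φ 3)) θ = 0) ∨
      (rg 2 (φ 0) θ ≠ 0 ∧ (charDegree θ).factorization 2 = 5 ∧
        θ 1 = 64 * classInner (φ 1 - φ 0) θ + 224 * classInner (φ 0 + φ 1 + (φ 2 + φ 3)) θ) := fun θ hθ => by
    have h1 := hW θ
    simp only [classInner_add_left, classInner_sub_left] at h1 ⊢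
    by_cases h2 : ∃ j, φ j = θ
    · obtain ⟨j, rfl⟩ := h2
      rw [Blocks.Basic.charDegree_of_eq (hd j), hd j]
      simp only [ort] at h1 ⊢
      refine .inr ⟨fun h3 => ?_, ?_, ?_⟩
      · rw [h3] at h1
        fin_cases j <;> norm_num [Fin.ext_iff] at h1
      · fin_cases j <;> decide +kernel
      · fin_cases j <;> norm_num [Fin.ext_iff]
    · have h3 : ∀ j, classInner (φ j) θ = 0 := fun j => classInner_irr_ne (hφ j) hθ fun e => h2 ⟨j, e⟩
      simp only [h3] at h1 ⊢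
      exact .inl ⟨by simpa using h1, sub_zero _, by simp⟩
  have ov : ∀ χ : IrrCharacter K, mu gΦ χ ≠ 0 ∨ mu gΨ χ ≠ 0 → Comp.Ov σ ν χ := fun χ h1 =>
    h1.elim (fun h1 => u.ov h χ.2 (by rw [inner_mu gΦ]; exact_mod_cast h1))
      fun h1 => v.ov h χ.2 (by rw [inner_mu gΨ]; exact_mod_cast h1)
  obtain ⟨χ, ψ, h1, h2, h3⟩ := four_num (mu gΦ) (mu gΨ) (fun χ => charDegree (χ : K → ℂ))
    (Int.cast_injective (α := ℂ) (by
      rw [← inner_sum_mu, u.inner h u]
      simp only [classInner_sub_left, classInner_sub_right, ort]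
      norm_num [Fin.ext_iff]))
    (Int.cast_injective (α := ℂ) (by
      rw [← inner_sum_mu, u.inner h v]
      simp only [classInner_sub_left, classInner_add_right, ort]
      norm_num [Fin.ext_iff]))
    (Int.cast_injective (α := ℂ) (by
      rw [← inner_sum_mu, v.inner h v]
      simp only [classInner_add_left, classInner_add_right, ort]
      norm_num [Fin.ext_iff]))
    fun χ h1 => ⟨Blocks.Basic.charDegree_pos χ.2, by
      obtain ⟨ι, _, θ, m, h2, h3, h4⟩ := sep h (hφ 0) (fun θ hθ h2 => by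
        rw [((cs θ hθ).resolve_left fun h3 => h2 h3.1).2.1, Blocks.Basic.charDegree_of_eq (hd 0)]
        decide +kernel) χ
      have h5 := (inner_mu gΦ χ).symm.trans (u.inner_irr h χ.2 (ov χ h1) h3)
      have h6 := (inner_mu gΨ χ).symm.trans (v.inner_irr h χ.2 (ov χ h1) h3)
      simp only [classInner_sum_right, classInner_smul_right, map_intCast] at h5 h6
      rcases h4 with h4 | h4
      · have h7 := fun i => (cs _ (h2 i)).resolve_right fun h7 => h7.1 (h4 i)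
        simp only [fun i => (h7 i).2.1, fun i => (h7 i).2.2, mul_zero, Finset.sum_const_zero, Int.cast_eq_zero] at h5 h6
        exact absurd h1 (by simp [h5, h6])
      · have h7 := h3 1 reg_one
        rw [map_one, Finset.sum_apply, Blocks.Basic.irr_one_eq_charDegree χ.2] at h7
        refine Int.cast_injective (α := ℂ) ?_
        push_cast
        rw [h5, h6, h7, Finset.mul_sum, Finset.mul_sum, ← Finset.sum_add_distrib]
        refine Finset.sum_congr rfl fun i _ => ?_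
        rw [Pi.smul_apply, ((cs _ (h2 i)).resolve_left fun h8 => h4 i h8.1).2.2, smul_eq_mul]
        ring⟩
  exact ⟨χ, ψ, ov χ h1, ov ψ h2, h3⟩

open TAB.J2 TAB.Sm2 in
theorem j2_2_3T : ∀ (S : Type) [Group S] [Finite S], Spor.IsoJ2 S → Cov XT 2 3 S := by
  rintro S _ _ ⟨e⟩
  have := Fact.mk Nat.prime_three
  have := finite
  obtain ⟨f⟩ := H379.J2Spec.iso
  have := Finite.of_equiv _ f.toEquiv
  obtain ⟨T, -, -, -, -, -, χ, hE, hR⟩ := tab
  have h5 := hR ([(5, 1)], rw' A B 5) (by decide +kernel)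
  have h8 := hR ([(8, 1)], rw' A B 8) (by decide +kernel)
  have h15 := hR ([(19, 1), (20, 1)], rw' A B 15) (by decide +kernel)
  simp only [List.map_cons, List.map_nil, List.sum_cons, List.sum_nil, Int.cast_one, one_mul, add_zero] at h5 h8 h15
  have hl : ∀ j : Fin 4, ![5, 8, 19, 20] j < (mkRows A B).n := by decide +kernel
  refine Cov.of_equiv (e.trans f) fun K _ _ σ M b E H hc => ?_
  obtain ⟨ν, hν⟩ := C1.exists_nu H Nat.prime_two hc
  obtain ⟨χ₁, χ₂, h1, h2, h3, h4, h6⟩ := four (C1.ext H hc) ν (fun j => χ (![5, 8, 19, 20] j)) (fun j => hE.irr _ (hl j))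
    (fun i j e => (by decide : ∀ i j : Fin 4, ![5, 8, 19, 20] i = ![5, 8, 19, 20] j → i = j) i j
      (hE.inj _ (hl i) _ (hl j) e))
    (fun j => (hE.deg _ (hl j)).trans (congrArg _ (by revert j; decide +kernel)))
    (fun g hg => by
      change χ 5 g + χ 8 g = χ 19 g + χ 20 g
      rw [h5, h8, h15]
      exact_mod_cast (by decide +kernel : ∀ t < D.n, ¬ 2 ∣ D.ord t →
        (rw' A B 5).getD t 0 + (rw' A B 8).getD t 0 = (rw' A B 15).getD t 0) _ (T.lt g) (T.ord g ▸ hg))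
    fun g hg => by
      change χ 8 g - χ 5 g = 0 ∧ χ 5 g + χ 8 g + (χ 19 g + χ 20 g) = 0
      rw [h5, h8, h15]
      exact_mod_cast (by decide +kernel : ∀ t < D.n, 2 ∣ D.ord t → (rw' A B 8).getD t 0 - (rw' A B 5).getD t 0 = 0 ∧
        (rw' A B 5).getD t 0 + (rw' A B 8).getD t 0 + (rw' A B 15).getD t 0 = 0) _ (T.lt g) (T.ord g ▸ hg)
  exact H.not_XT_crit ((Reg.of_equiv f.symm j2_reg).mono (by norm_num)) χ₁ χ₂ (hν χ₁ h1) (hν χ₂ h2) h3 h4 h6

end Cfsg.Agent.BZ.C3
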