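import Cfsg.Agent.BZ.C3.Co1
import Cfsg.Agent.BZ.C1.Gen
import Cfsg.Agent.TAB.Eng.Delta

/-!
# BZ, the cover `2.Co₁` : two degrees of height zero (helper43)

The third tensor power of the character of degree `24` gives the characters of degrees `4576` and `2024`.
-/

set_option autoImplicit false
set_option maxHeartbeats 400000
set_option maxRecDepth 100000
set_option linter.unusedSectionVars false

namespace Cfsg.Agent.BZ.C3

open Cfsg Subgroup Cfsg.Agent.BZ.T Cfsg.Agent.Characters.Core Cfsg.Agent.OddOrderCharacters.VChar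
open Cfsg.Agent.TAB.Eng Cfsg.Agent.TAB.Use Cfsg.Agent.TAB.Co1 Cfsg.Agent.BZ.C4
open scoped ComplexConjugate

theorem cube_num {ι : Type} [Fintype ι] (a b c u : ι → ℤ) (h : ∀ i, 3 * u i = a i + b i - c i) (ha : ∑ i, a i * a i = 2)
    (hb : ∑ i, b i * b i = 2) (hab : ∑ i, a i * b i = 1) (hc : ∑ i, c i * c i = 3) (hu : ∑ i, u i * u i ≠ 0) :
    ∑ i, u i * u i = 1 ∧ ∑ i, (a i - u i) * (a i - u i) = 1 := by
  have bd : ∀ (f : ι → ℤ) (n : ℤ), n ≤ 3 → ∑ i, f i * f i = n → ∀ i, -1 ≤ f i ∧ f i ≤ 1 := fun f n hn hf i => by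
    have h1 := (Finset.single_le_sum (f := fun i => f i * f i) (fun _ _ => mul_self_nonneg _) (Finset.mem_univ i)).trans_eq hf
    exact ⟨by nlinarith, by nlinarith⟩
  have key : ∀ i, 4 * (u i * u i) ≤ a i * a i + b i * b i + 2 * (a i * b i) ∧
      (a i - u i) * (a i - u i) = a i * a i - u i * u i := fun i => by
    obtain ⟨h1, h2⟩ := bd a 2 (by norm_num) ha i
    obtain ⟨h3, h4⟩ := bd b 2 (by norm_num) hb i
    obtain ⟨h5, h6⟩ := bd c 3 le_rfl hc i
    have h7 := h i
    have h8 : u i = 0 ∨ (u i = 1 ∧ a i = 1 ∧ b i = 1) ∨ (u i = -1 ∧ a i = -1 ∧ b i = -1) := by omega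
    rcases h8 with h8 | ⟨h8, h9, h10⟩ | ⟨h8, h9, h10⟩
    · rw [h8]
      exact ⟨by nlinarith [mul_self_nonneg (a i + b i)], by ring⟩
    · rw [h8, h9, h10]
      decide
    · rw [h8, h9, h10]
      decide
  have h1 := Finset.sum_le_sum fun i (_ : i ∈ Finset.univ) => (key i).1
  rw [← Finset.mul_sum, Finset.sum_add_distrib, Finset.sum_add_distrib, ← Finset.mul_sum, ha, hb, hab] at h1
  have h2 : 0 ≤ ∑ i, u i * u i := Finset.sum_nonneg fun _ _ => mul_self_nonneg _
  rw [Finset.sum_congr rfl fun i _ => (key i).2, Finset.sum_sub_distrib, ha]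
  omega

variable {K : Type} [Group K] [Finite K] {σ : K →* Spor.Co1} {T : TD Spor.Co1 D} {ψ : K → ℂ}

/-- the mean of a function of the types -/
noncomputable def mean (F : ℕ → ℤ) : ℤ := ((List.range D.n).map fun t => (D.cnt t : ℤ) * F t).sum

theorem inner_ty [Fintype K] (hm : T.Mass) (hs : Function.Surjective σ) {φ φ' : K → ℂ} (F : ℕ → ℤ)
    (h : ∀ g, φ g * conj (φ' g) = F (T.ty (σ g))) {n : ℤ} (hn : mean F = D.N * n) : classInner φ φ' = n := by
  classical
  have := co1_fin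
  let _ := Fintype.ofFinite Spor.Co1
  rw [classInner, Finset.sum_congr rfl fun g _ => h g, H829.GowDesc.sum_comp_surj σ hs fun s => (F (T.ty s) : ℂ),
    sum_mass hm fun t => (F t : ℂ), H264.CoverOver.card_eq_of_surj hs, hm.1]
  have h6 : ∑ t ∈ Finset.range D.n, D.cnt t • (F t : ℂ) = ((mean F : ℤ) : ℂ) := by
    rw [mean, Int.cast_list_sum, List.map_map]
    refine Eq.trans (Finset.sum_congr rfl fun t _ => ?_) (by rfl)
    rw [nsmul_eq_mul, Function.comp_apply, Int.cast_mul (D.cnt t : ℤ), Int.cast_natCast]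
  have h7 : (Nat.card σ.ker : ℂ) ≠ 0 := Nat.cast_ne_zero.2 Nat.card_pos.ne'
  have h8 : (D.N : ℂ) ≠ 0 := Nat.cast_ne_zero.2 (hm.1 ▸ Nat.card_pos.ne')
  rw [h6, hn]
  push_cast
  field_simp

theorem fd_cube (hT : Tb T) (L : Lee T σ ψ) (hs : Function.Surjective σ) (hk : σ.ker = center K)
    (hc : Nat.card (center K) = 2) : C2.Fd K 4576 ∧ C2.Fd K 2024 := by
  classical
  let _ := Fintype.ofFinite K
  have := finite_irr (G := K)
  let _ := Fintype.ofFinite (IrrCharacter K)
  have g0 := gen_of_irr L.irr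
  let a : K → ℂ := ψ * fun g => ((nth r1 (T.ty (σ g)) + -1 : ℤ) : ℂ)
  let b : K → ℂ := ψ * fun g => ((nth r2 (T.ty (σ g)) + -1 : ℤ) : ℂ)
  let c : K → ℂ := fun g => ψ (g ^ 3)
  let u : K → ℂ := -(fun g => (ψ (g ^ 3) - ψ g ^ 3) / (3 : ℕ)) - ψ
  have ga : IsGeneralizedCharacter K a :=
    gen_mul g0 (H651.isGeneralizedCharacter_comp_hom σ ((hT.virt _ (mem_rows 1 rfl)).add (Virt.const (-1))))
  have gb : IsGeneralizedCharacter K b :=
    gen_mul g0 (H651.isGeneralizedCharacter_comp_hom σ ((hT.virt _ (mem_rows 2 rfl)).add (Virt.const (-1))))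
  have gc : IsGeneralizedCharacter K c := H139.Cusp.isGeneralizedCharacter_pow g0 3
  have gu : IsGeneralizedCharacter K u := gen_sub (gen_neg (gen_delta g0 Nat.prime_three)) g0
  have e1 : (3 : ℂ) • u = a + b - c := funext fun g => by
    have h1 := L.sq g
    simp only [u, a, b, c, Pi.smul_apply, Pi.sub_apply, Pi.neg_apply, Pi.add_apply, Pi.mul_apply, smul_eq_mul]
    push_cast at h1 ⊢
    linear_combination ψ g * h1
  have key : ∀ v w : ℕ → ℤ, ∀ g, (ψ * fun g => (v (T.ty (σ g)) : ℂ)) g * conj ((ψ * fun g => (w (T.ty (σ g)) : ℂ)) g) =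
      (((1 + nth r1 (T.ty (σ g)) + nth r2 (T.ty (σ g))) * (v (T.ty (σ g)) * w (T.ty (σ g))) : ℤ) : ℂ) := fun v w g => by
    simp only [Pi.mul_apply, map_mul, L.real, map_intCast]
    rw [Int.cast_mul, ← L.sq]
    push_cast
    ring
  have naa : classInner a a = (2 : ℤ) := inner_ty hT.mass hs
    (fun t => (1 + nth r1 t + nth r2 t) * ((nth r1 t + -1) * (nth r1 t + -1)))
    (key (fun t => nth r1 t + -1) fun t => nth r1 t + -1) (by decide +kernel)
  have nbb : classInner b b = (2 : ℤ) := inner_ty hT.mass hs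
    (fun t => (1 + nth r1 t + nth r2 t) * ((nth r2 t + -1) * (nth r2 t + -1)))
    (key (fun t => nth r2 t + -1) fun t => nth r2 t + -1) (by decide +kernel)
  have nab : classInner a b = (1 : ℤ) := inner_ty hT.mass hs
    (fun t => (1 + nth r1 t + nth r2 t) * ((nth r1 t + -1) * (nth r2 t + -1)))
    (key (fun t => nth r1 t + -1) fun t => nth r2 t + -1) (by decide +kernel)
  have ncc : classInner c c = (3 : ℤ) := inner_ty hT.mass hs
    (fun t => 1 + nth r1 (D.pwf t 3) + nth r2 (D.pwf t 3)) (fun g => by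
      rw [← T.pow, ← map_pow, ← L.sq, L.real, pow_two]) (by decide +kernel)
  choose ca hca using fun χ : IrrCharacter K => gen_inner ga (gen_of_irr χ.2)
  choose cb hcb using fun χ : IrrCharacter K => gen_inner gb (gen_of_irr χ.2)
  choose cc hcc using fun χ : IrrCharacter K => gen_inner gc (gen_of_irr χ.2)
  choose cu hcu using fun χ : IrrCharacter K => gen_inner gu (gen_of_irr χ.2)
  have par : ∀ {φ φ' : K → ℂ} {x y : IrrCharacter K → ℤ}, IsGeneralizedCharacter K φ → IsGeneralizedCharacter K φ' →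
      (∀ χ : IrrCharacter K, classInner φ χ = x χ) → (∀ χ : IrrCharacter K, classInner φ' χ = y χ) →
      classInner φ φ' = ((∑ χ, x χ * y χ : ℤ) : ℂ) := fun h1 h2 h3 h4 => by
    rw [classInner_eq_sum (gen_isClassFunction h1) (gen_isClassFunction h2), Int.cast_sum]
    exact Finset.sum_congr rfl fun χ _ => by rw [h3, h4, map_intCast, Int.cast_mul]
  have ty0 : T.ty (σ 1) = 0 := by rw [map_one, ty_one]
  have r10 : nth r1 0 = 276 := by decide +kernel
  have u1 : u 1 = (4576 : ℕ) := by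
    simp only [u, Pi.sub_apply, Pi.neg_apply, one_pow, L.one]
    norm_num
  have a1 : (a - u) 1 = (2024 : ℕ) := by
    simp only [a, Pi.sub_apply, Pi.mul_apply, u1, ty0, r10, L.one]
    norm_num
  obtain ⟨h1, h2⟩ := cube_num ca cb cc cu (fun χ => Int.cast_injective (α := ℂ) (by
      have h1 := congrArg (fun φ => classInner φ (χ : K → ℂ)) e1
      simp only [classInner_smul_left, classInner_sub_left, classInner_add_left, hca, hcb, hcc, hcu] at h1
      exact_mod_cast h1))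
    (Int.cast_injective ((par ga ga hca hca).symm.trans naa)) (Int.cast_injective ((par gb gb hcb hcb).symm.trans nbb))
    (Int.cast_injective ((par ga gb hca hcb).symm.trans nab)) (Int.cast_injective ((par gc gc hcc hcc).symm.trans ncc))
    fun h0 => by
      have h1 := par gu gu hcu hcu
      rw [h0, Int.cast_zero] at h1
      rw [classInner_self_eq_zero h1] at u1
      norm_num at u1
  have i1 := H164.M23.Theta.irr_of_gen gu (by rw [par gu gu hcu hcu, h1, Int.cast_one]) u1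
  have h3 : ∀ χ : IrrCharacter K, classInner (a - u) χ = ((ca χ - cu χ : ℤ) : ℂ) := fun χ => by
    rw [classInner_sub_left, hca, hcu, Int.cast_sub]
  have i2 := H164.M23.Theta.irr_of_gen (gen_sub ga gu) (by rw [par (gen_sub ga gu) (gen_sub ga gu) h3 h3, h2, Int.cast_one]) a1
  have hz : ∀ z ∈ center K, z ≠ 1 → u z = -4576 ∧ (a - u) z = -2024 := fun z hz h0 => by
    have h4 : σ z = 1 := by rwa [← hk] at hz
    have h5 : z ^ 2 = 1 := by
      have h6 := pow_card_eq_one' (x := (⟨z, hz⟩ : center K))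
      rw [hc] at h6
      exact congrArg Subtype.val h6
    have h6 : u z = -4576 := by
      simp only [u, Pi.sub_apply, Pi.neg_apply, pow_succ z 2, h5, one_mul, L.neg z h4 h0]
      norm_num
    refine ⟨h6, ?_⟩
    simp only [a, Pi.sub_apply, Pi.mul_apply, h6, h4, ty_one, r10, L.neg z h4 h0]
    norm_num
  refine ⟨⟨⟨u, i1⟩, fun z h4 h5 => by_contra fun h0 => ?_, C1.deg_eq (χ := ⟨u, i1⟩) u1⟩,
    ⟨⟨a - u, i2⟩, fun z h4 h5 => by_contra fun h0 => ?_, C1.deg_eq (χ := ⟨a - u, i2⟩) a1⟩⟩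
  · have h6 := (hz z h4 h0).1.symm.trans (h5.trans u1)
    norm_num at h6
  · have h6 := (hz z h4 h0).2.symm.trans (h5.trans a1)
    norm_num at h6

theorem co1_2_3T : ∀ (S : Type) [Group S] [Finite S], Spor.IsoCo1 S → Cov XT 2 3 S := by
  rintro S _ _ ⟨e⟩
  have : Fact (Nat.Prime 3) := ⟨Nat.prime_three⟩
  refine Cov.of_equiv e fun K _ _ σ M B D H hc => ?_
  obtain ⟨T, hT⟩ := exists_tb
  obtain ⟨ψ, L⟩ := hT.lee H.qs.1.commutator_eq_top H.surj H.ker hc
  obtain ⟨h1, h2⟩ := fd_cube hT L H.surj H.ker hc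
  exact h1.xt h2 H (co1_rt H hc L) (by norm_num) (by norm_num) (by norm_num)

theorem co1_2_5T : ∀ (S : Type) [Group S] [Finite S], Spor.IsoCo1 S → Cov XT 2 5 S := by
  rintro S _ _ ⟨e⟩
  have : Fact (Nat.Prime 5) := ⟨by norm_num⟩
  refine Cov.of_equiv e fun K _ _ σ M B D H hc => ?_
  obtain ⟨T, hT⟩ := exists_tb
  obtain ⟨ψ, L⟩ := hT.lee H.qs.1.commutator_eq_top H.surj H.ker hc
  obtain ⟨h1, h2⟩ := fd_cube hT L H.surj H.ker hc
  exact h1.xt h2 H (H.rt_of_reg hT.reg5) (by norm_num) (by norm_num) (by norm_num)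

end Cfsg.Agent.BZ.C3
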