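import Cfsg.Agent.BZ.T.Count
import Cfsg.Agent.BHZ.Spor.Nine
import Cfsg.Agent.TID.Suz.Loc
import Cfsg.Agent.H644.Maximal
import Cfsg.Agent.H649.PairInduced
import Cfsg.Agent.S4828

/-!
# BZ, `p = 3` : the defect groups with centraliser of type `A₆` (helper43)

* `ker_six` : a central involution in the derived group of `C(D)` is in the kernel of the block;
* `nine_proj`, `nine_rt` : the structure `3² × A₆`; `bad_six` : there is no faithful block.
-/

set_option autoImplicit false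
set_option maxHeartbeats 400000
set_option linter.unusedSectionVars false

namespace Cfsg.Agent.BZ.C3

open Cfsg Subgroup Cfsg.Agent.BZ.T Cfsg.Agent.BHZ.Spor Cfsg.Agent.Characters.Core
open scoped commutatorElement

theorem ker_six {K : Type} [Group K] [Finite K] {M : Ideal AlgInt} {B : Set (IrrCharacter K)} {D : Subgroup K}
    (hM : IsPModular 3 M) (hB : IsPBlock M B) (hD : IsDefectGroup 3 M B D)
    {f : centralizer (D : Set K) →* alternatingGroup (Fin 6)} (hf : Function.Surjective f) (hk : f.ker ≤ center _)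
    (hD' : ∀ c : centralizer (D : Set K), (c : K) ∈ D → f c = 1) {z : centralizer (D : Set K)} (hz : (z : K) ∈ center K)
    (hz' : z ∈ _root_.commutator (centralizer (D : Set K))) (h2 : z ^ 2 = 1) {χ : IrrCharacter K} (hχ : χ ∈ B) :
    (χ : K → ℂ) z = (χ : K → ℂ) 1 := by
  have : Fact (Nat.Prime 3) := ⟨Nat.prime_three⟩
  have hMp : M.IsPrime := hM.2.1.isPrime
  obtain ⟨e, he⟩ := H644.exists_pair_of_le_isDefectGroup hM hB hD le_rfl
  obtain ⟨θ, hθ, -, h3, -⟩ := (S4828.result 3 M hM D e he.1).1 ⟨B, H644.isMaximalBrauerPair_of_isDefectGroup hM he hD⟩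
  have hi := (H649.isBrauerPairOf_iff_isInducedBlock hM hB he.1.1 he.1.2).1 he
  have h4 : Nat.card ↥(D ⊓ centralizer (D : Set K)) ∣ Nat.card f.ker :=
    card_dvd_of_injective ((inclusion inf_le_right).codRestrict f.ker fun c => hD' _ c.2.1)
      fun a b h => Subtype.ext (congrArg (fun x : f.ker => ((x : centralizer (D : Set K)) : K)) h)
  have h5 := (Nat.factorization_le_iff_dvd Nat.card_pos.ne' Nat.card_pos.ne').2 h4 3
  rw [TID.Suz.card_ext hf, Nat.factorization_mul Nat.card_pos.ne' (by norm_num), Finsupp.add_apply,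
    show (360 : ℕ).factorization 3 = 2 by decide +kernel] at h3
  have hd := Blocks.Basic.irr_one_eq_charDegree θ.2
  have h6 := TID.Suz.deg_nine hf hk θ.2 hd
    ((Nat.prime_three.pow_dvd_iff_le_factorization (k := 2) (Blocks.Basic.charDegree_pos θ.2).ne').2 (by omega))
  have hzC : z ∈ center (centralizer (D : Set K)) := mem_center_iff.2 fun g => Subtype.ext (mem_center_iff.1 hz g)
  obtain ⟨w, hw, hw'⟩ := Classification.QDW.CentralEnd.exists_root θ.2 hzC hz' hd
  have h7 := hw' 1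
  have h8 := hw' z
  rw [one_mul] at h7
  rw [← pow_two, h2, h7, ← mul_assoc] at h8
  have h9 : w ^ 2 = 1 := by
    rw [pow_two]
    exact (mul_eq_right₀ (isIrr_apply_one_ne_zero θ.2)).1 h8.symm
  have h10 : w = 1 := by
    rw [h6, show 9 = 2 * 4 + 1 from rfl, pow_succ, pow_mul, h9, one_pow, one_mul] at hw
    exact hw
  rw [h10, one_mul] at h7
  have h11 := hi.2.2 θ hθ χ hχ z
  have h12 : {h : centralizer (D : Set K) | IsConj (z : K) (h : K)} = {z} := by
    ext h
    rw [Set.mem_ofPred_eq, Set.mem_singleton_iff]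
    constructor
    · intro h4
      obtain ⟨c, hc⟩ := isConj_iff.1 h4
      rw [mem_center_iff.1 hz c, mul_inv_cancel_right] at hc
      exact Subtype.ext hc.symm
    · rintro rfl
      exact IsConj.refl _
  rw [inducedCentralChar, h12, finsum_mem_singleton, h7, div_self (isIrr_apply_one_ne_zero θ.2), omega_cen _ hz] at h11
  have h13 := cen_pow χ.2 hz 2
  rw [← coe_pow, h2, coe_one, div_self (isIrr_apply_one_ne_zero χ.2)] at h13
  have h14 := H700.PrinCrit.eq_one_of_sub_mem hM (m := 2) (by norm_num) h13.symm (by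
    rw [← neg_sub]
    exact Blocks.Local.memLocalIdeal_neg h11)
  exact (div_eq_one_iff_eq (isIrr_apply_one_ne_zero χ.2)).1 h14

section

variable {S : Type} [Group S] [Finite S] {E L : Subgroup S}

theorem nine_inf (h : Nine E L) {a : S} (ha : a ∈ E) (hl : a ∈ L) : a = 1 := by
  obtain ⟨e⟩ := h.iso
  have h1 : e ⟨a, hl⟩ ∈ center (alternatingGroup (Fin 6)) := mem_center_iff.2 fun g => by
    obtain ⟨g, rfl⟩ := e.surjective g
    rw [← map_mul, ← map_mul]
    exact congrArg e (Subtype.ext (h.comm ha (mem_sup_right g.2)).eq.symm)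
  rw [alternatingGroup.center_eq_bot (by simp), mem_bot, map_eq_one_iff _ e.injective] at h1
  exact congrArg Subtype.val h1

theorem nine_proj (h : Nine E L) : ∃ π : ↥(E ⊔ L) →* alternatingGroup (Fin 6), (∀ c, π c = 1 ↔ (c : S) ∈ E) ∧
    ∀ g, ∃ c : ↥(E ⊔ L), (c : S) ∈ L ∧ π c = g := by
  obtain ⟨e⟩ := h.iso
  choose a ha k hk hc using fun c : ↥(E ⊔ L) => h.split c.2
  have uniq : ∀ (c : ↥(E ⊔ L)) (a' k' : S), a' ∈ E → k' ∈ L → (c : S) = a' * k' → k c = k' := fun c a' k' h1 h2 h3 => by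
    have h4 : a'⁻¹ * a c = k' * (k c)⁻¹ := by
      rw [inv_mul_eq_iff_eq_mul, ← mul_assoc, ← h3, hc c, mul_inv_cancel_right]
    have h5 := nine_inf h (h4 ▸ mul_mem (inv_mem h1) (ha c)) (mul_mem h2 (inv_mem (hk c)))
    exact (mul_inv_eq_one.1 h5).symm
  refine ⟨e.toMonoidHom.comp (MonoidHom.mk' (fun c => ⟨k c, hk c⟩) fun c d => Subtype.ext
    (uniq _ (a c * a d) _ (mul_mem (ha c) (ha d)) (mul_mem (hk c) (hk d)) ?_)), fun c => ?_, fun g => ?_⟩
  · rw [coe_mul, hc c, hc d, mul_assoc, mul_assoc, ← mul_assoc (k c), ← (h.comm (ha d) (mem_sup_right (hk c))).eq,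
      mul_assoc]
    rfl
  · change e ⟨k c, hk c⟩ = 1 ↔ _
    rw [map_eq_one_iff _ e.injective, Subtype.ext_iff]
    exact ⟨fun h1 => by rw [hc c, show k c = 1 from h1, mul_one]; exact ha c,
      fun h1 => uniq c c 1 h1 (one_mem _) (mul_one _).symm⟩
  · obtain ⟨g, rfl⟩ := e.surjective g
    exact ⟨⟨g, mem_sup_right g.2⟩, g.2, congrArg e (Subtype.ext (uniq _ 1 g (one_mem _) g.2 (one_mul _).symm))⟩

theorem nine_rt (h : Nine E L) {x : S} (hx : x ∈ E) (hx1 : x ≠ 1) {F : Subgroup S} (hF : IsPGroup 3 F) (hxF : x ∈ F)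
    (hc : ∀ d ∈ F, Commute x d) (hne : ¬ F ≤ E) : RegTriv 3 F := fun r h1 h2 => by
  have : Fact (Nat.Prime 3) := ⟨Nat.prime_three⟩
  obtain ⟨π, hπ, -⟩ := nine_proj h
  obtain ⟨d, hd, hdE⟩ := SetLike.not_le_iff_exists.1 hne
  have hm : ∀ c, Commute x c → c ∈ E ⊔ L := fun c hc => h.cent x hx hx1 ▸ mem_centralizer_singleton_iff.2 hc.symm
  obtain ⟨j, hj⟩ := pelt_of_mem hF hd
  let d' : ↥(E ⊔ L) := ⟨d, hm d (hc d hd)⟩
  let r' : ↥(E ⊔ L) := ⟨r, hm r (h1 x hxF)⟩
  have h3 : ¬ 3 ∣ orderOf (π r') := reg_map' (by rwa [← orderOf_coe])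
  have h4 : π d' ^ 3 ^ j = 1 := by rw [← map_pow, show d' ^ 3 ^ j = 1 from Subtype.ext hj, map_one]
  have h5 : 3 ∣ orderOf (π d') := by_contra fun h5 => hdE ((hπ d').1 (eq_one_of_reg h5 h4))
  have h6 := (Commute.map (show Commute d' r' from Subtype.ext (h1 d hd).eq) π).orderOf_mul_eq_mul_orderOf_of_coprime
    (Nat.Coprime.coprime_dvd_left (orderOf_dvd_of_pow_eq_one h4) ((Nat.prime_three.coprime_iff_not_dvd.2 h3).pow_left j))
  have h7 := H365.NseAlt.or6 (π d' * π r')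
  have h8 := Nat.le_of_dvd (orderOf_pos _) h5
  have h9 : orderOf (π r') = 1 := by
    have h10 := orderOf_pos (π r')
    rw [h6] at h7
    simp only [List.mem_cons, List.not_mem_nil, or_false] at h7
    by_contra h11
    have h12 := Nat.mul_le_mul h8 (show 2 ≤ orderOf (π r') by omega)
    omega
  obtain ⟨i, hi⟩ := pelt_of_mem h.pg ((hπ r').1 (orderOf_eq_one_iff.1 h9))
  exact eq_one_of_reg h2 hi

end

/-- an element of order `42` -/
theorem exists_42 {S T : Type} [Group S] [Finite S] [Group T] {y : S} (hy : orderOf y = 3)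
    (φ : centralizer ({y} : Set S) →* T) (hs : Function.Surjective φ) (hk : ∀ c, φ c = 1 → (c : S) ∈ zpowers y)
    {a : centralizer ({y} : Set S)} (ha : a ^ 2 = 1) (ha1 : φ a ≠ 1) (h7 : 7 ∣ Nat.card (centralizer ({φ a} : Set T))) :
    ∃ w : S, orderOf w = 42 ∧ w ^ 21 = a := by
  have : Fact (Nat.Prime 7) := ⟨by norm_num⟩
  have := Finite.of_surjective φ hs
  have h3 : ∀ c, φ c = 1 → c ^ 3 = 1 := fun c hc => by
    obtain ⟨i, hi⟩ := hk c hc
    refine Subtype.ext ?_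
    rw [coe_pow, ← hi, ← zpow_natCast, ← zpow_mul, mul_comm, zpow_mul, zpow_natCast, ← hy, pow_orderOf_eq_one, one_zpow]
    rfl
  obtain ⟨s, hs7⟩ := exists_prime_orderOf_dvd_card' 7 h7
  obtain ⟨b, hb⟩ := hs s
  rw [← orderOf_coe, ← hb] at hs7
  have h1 : Commute (φ a) (φ b) := hb ▸ (mem_centralizer_singleton_iff.1 s.2).symm
  have h2 : Commute a b := commute_of_pows (ker_le_center φ hk) h1
    (comm_pow_order_left (ker_le_center φ hk) h1 (by rw [← map_pow, ha, map_one])) (h3 _ (map_comm_eq_one h1)) (by norm_num)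
  have h4 : orderOf (b ^ 3) = 7 := orderOf_eq_prime
    (by rw [← pow_mul, mul_comm, pow_mul]; exact h3 _ (by rw [map_pow, ← hs7, pow_orderOf_eq_one])) fun h => by
      have h5 := orderOf_dvd_of_pow_eq_one (show φ b ^ 3 = 1 by rw [← map_pow, h, map_one])
      rw [hs7] at h5
      norm_num at h5
  have h5 : orderOf a = 2 := orderOf_eq_prime ha fun h => ha1 (by rw [h, map_one])
  let u : centralizer ({y} : Set S) := ⟨y, mem_centralizer_singleton_iff.2 rfl⟩
  have h6 : orderOf u = 3 := by rwa [← orderOf_coe]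
  have h8 : ∀ c, Commute c u := fun c => Subtype.ext (mem_centralizer_singleton_iff.1 c.2)
  have h9 : orderOf (a * b ^ 3) = 14 := by
    rw [(h2.pow_right 3).orderOf_mul_eq_mul_orderOf_of_coprime (by rw [h4, h5]; norm_num), h4, h5]
  refine ⟨(a * b ^ 3 * u : centralizer ({y} : Set S)), ?_, ?_⟩
  · rw [orderOf_coe, (h8 _).orderOf_mul_eq_mul_orderOf_of_coprime (by rw [h9, h6]; norm_num), h9, h6]
  · rw [← coe_pow, (h8 _).mul_pow, (h2.pow_right 3).mul_pow, show 21 = 2 * 10 + 1 from rfl, pow_succ, pow_mul, ha,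
      show 2 * 10 + 1 = 7 * 3 from rfl, pow_mul, ← h4, pow_orderOf_eq_one, h4, mul_comm 7, pow_mul, ← h6, pow_orderOf_eq_one]
    simp

/-- **no faithful block** -/
theorem bad_six {K S T : Type} [Group K] [Finite K] [Group S] [Group T] {σ : K →* S} {M : Ideal AlgInt}
    {B : Set (IrrCharacter K)} {D : Subgroup K} (H : Hyp 3 M B D σ) (hc : Nat.card (center K) = 2) {y : S}
    (hy : y ∈ D.map σ) (hy3 : orderOf y = 3) (hyD : ∀ d ∈ D.map σ, Commute y d) (φ : centralizer ({y} : Set S) →* T)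
    (hs : Function.Surjective φ) (hk : ∀ c, φ c = 1 → (c : S) ∈ zpowers y) {E L : Subgroup T} (h : Nine E L)
    (hE : ((D.map σ).subgroupOf _).map φ = E) {t : T} (ht : t ∈ L) (ht2 : orderOf t = 2)
    (h7 : 7 ∣ Nat.card (centralizer ({t} : Set T))) (h42 : ∀ (g : K) (w : S), orderOf w = 42 → w ^ 21 = σ g → g * g ≠ 1) :
    False := by
  have : Fact (Nat.Prime 3) := ⟨Nat.prime_three⟩
  have := Finite.of_surjective σ H.surj
  have := Finite.of_surjective φ hs
  let Γ : Subgroup K := (centralizer ({y} : Set S)).comap σ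
  let τ : Γ →* centralizer ({y} : Set S) := (σ.comp Γ.subtype).codRestrict _ fun g => g.2
  let ρ : Γ →* T := φ.comp τ
  have hτ : Function.Surjective τ := fun c => by
    obtain ⟨g, hg⟩ := H.surj c
    exact ⟨⟨g, show σ g ∈ _ from hg ▸ c.2⟩, Subtype.ext hg⟩
  have hρ : Function.Surjective ρ := hs.comp hτ
  have h3 : ∀ c, φ c = 1 → (c : S) ^ 3 = 1 := fun c hc => by
    obtain ⟨i, hi⟩ := hk c hc
    rw [← hi, ← zpow_natCast, ← zpow_mul, mul_comm, zpow_mul, zpow_natCast, ← hy3, pow_orderOf_eq_one, one_zpow]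
  have hcen : ρ.ker ≤ center Γ := fun n hn => mem_center_iff.2 fun g => Subtype.ext
    (gd_of_coprime H.ker.le (h3 _ hn) (by rw [H.ker, hc]; norm_num) n g rfl
      (commute_of_mem_zpowers (mem_centralizer_singleton_iff.1 g.2).symm (hk _ hn))).eq.symm
  have hDΓ : D ≤ Γ := fun d hd => mem_centralizer_singleton_iff.2 (hyD _ ⟨d, hd, rfl⟩).symm
  have hCΓ : centralizer (D : Set K) ≤ Γ := fun c hc => by
    obtain ⟨d, hd, rfl⟩ := hy
    exact mem_centralizer_singleton_iff.2 (Commute.map (mem_centralizer_iff.1 hc d hd) σ).symm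
  have hE1 : ∀ d : Γ, (d : K) ∈ D → ρ d ∈ E := fun d hd => hE ▸ ⟨τ d, ⟨d, hd, rfl⟩, rfl⟩
  have hE2 : ∀ a ∈ E, ∃ d : Γ, (d : K) ∈ D ∧ ρ d = a := fun a ha => by
    rw [← hE] at ha
    obtain ⟨c, ⟨d, hd, e⟩, rfl⟩ := ha
    exact ⟨⟨d, hDΓ hd⟩, hd, congrArg φ (Subtype.ext e)⟩
  have h1 : ⁅L.comap ρ, D.subgroupOf Γ⁆ ≤ center Γ := commutator_le.2 fun n hn d hd =>
    hcen (map_comm_eq_one (h.comm (hE1 d hd) (mem_sup_right hn)).symm)
  have h2 : ⁅⁅L.comap ρ, D.subgroupOf Γ⁆, L.comap ρ⁆ = ⊥ :=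
    commutator_eq_bot_iff_le_centralizer.2 (h1.trans (center_le_centralizer _))
  have h4 : ⁅L.comap ρ, L.comap ρ⁆ ≤ (centralizer (D : Set K)).subgroupOf Γ := fun n hn =>
    mem_centralizer_iff.2 fun d hd => congrArg Subtype.val (mem_centralizer_iff.1 (commutator_eq_bot_iff_le_centralizer.1
      (commutator_commutator_eq_bot_of_rotate h2 (commutator_comm (L.comap ρ) (D.subgroupOf Γ) ▸ h2)) hn) ⟨d, hDΓ hd⟩ hd)
  have h5 : L ≤ ⁅L.comap ρ, L.comap ρ⁆.map ρ := by
    rw [map_commutator, map_comap_eq_self_of_surjective hρ]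
    exact h.perf
  obtain ⟨π, hπ, hπ'⟩ := nine_proj h
  obtain ⟨x, hx, hx1⟩ := h.exists_ne
  let ι : centralizer (D : Set K) →* Γ := inclusion hCΓ
  have h6 : ∀ c, ρ (ι c) ∈ E ⊔ L := fun c => by
    obtain ⟨d, hd, e⟩ := hE2 x hx
    rw [← h.cent x hx hx1, mem_centralizer_singleton_iff, ← e, ← map_mul, ← map_mul]
    exact congrArg ρ (Subtype.ext (mem_centralizer_iff.1 c.2 d hd).symm)
  let f : centralizer (D : Set K) →* alternatingGroup (Fin 6) := π.comp ((ρ.comp ι).codRestrict _ h6)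
  have hf : Function.Surjective f := fun g => by
    obtain ⟨c, h8, rfl⟩ := hπ' g
    obtain ⟨n, hn, e⟩ := h5 h8
    exact ⟨⟨n, h4 hn⟩, congrArg π (Subtype.ext e)⟩
  have hfk : f.ker ≤ center _ := fun c hc => mem_center_iff.2 fun g => by
    obtain ⟨d, hd, e⟩ := hE2 _ ((hπ _).1 hc)
    have h8 : d⁻¹ * ι c ∈ ρ.ker := by
      rw [MonoidHom.mem_ker, map_mul, map_inv, e]
      exact inv_mul_cancel _
    have h9 : Commute (ι g) (d * (d⁻¹ * ι c)) := Commute.mul_right (Subtype.ext (mem_centralizer_iff.1 g.2 d hd).symm)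
      (mem_center_iff.1 (hcen h8) _)
    rw [mul_inv_cancel_left] at h9
    exact Subtype.ext (congrArg (fun z : Γ => (z : K)) h9.eq)
  obtain ⟨c, hc1, hc2⟩ : t ∈ ⁅⁅L.comap ρ, L.comap ρ⁆, ⁅L.comap ρ, L.comap ρ⁆⁆.map ρ := by
    rw [map_commutator]
    exact commutator_mono h5 h5 (h.perf ht)
  obtain ⟨c, hc3, rfl⟩ : c ∈ (_root_.commutator (centralizer (D : Set K))).map ι := by
    rw [_root_.commutator_def, map_commutator, ← MonoidHom.range_eq_map, inclusion_range]
    exact commutator_mono h4 h4 hc1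
  have h8 : t ^ 2 = 1 := ht2 ▸ pow_orderOf_eq_one t
  have h9 : φ (τ (ι c) ^ 3) = t := by
    rw [map_pow, show φ (τ (ι c)) = t from hc2, pow_succ, h8, one_mul]
  have h10 : (τ (ι c) ^ 3) ^ 2 = 1 := Subtype.ext (by
    rw [← pow_mul, mul_comm, pow_mul, coe_pow]
    exact h3 _ (by rw [map_pow, show φ (τ (ι c)) = t from hc2, h8]))
  obtain ⟨w, hw, hw'⟩ := exists_42 hy3 φ hs hk h10 (by
    rw [h9]
    rintro rfl
    rw [orderOf_one] at ht2
    omega) (h9.symm ▸ h7)
  have h11 : ((c ^ 3 * c ^ 3 : centralizer (D : Set K)) : K) ∈ center K := by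
    rw [← H.ker, MonoidHom.mem_ker, coe_mul, coe_pow, map_mul, map_pow, ← pow_two]
    exact congrArg Subtype.val h10
  obtain ⟨χ, rfl⟩ := id H.hB
  have hχ : χ ∈ blockOf M (χ : K → ℂ) :=
    have := Blocks.Local.isPrime_of_isPModular H.hM
    Blocks.Basic.sameBlock_refl _
  refine h42 (c ^ 3) w hw (hw'.trans (map_pow σ _ 3).symm) (H.faith χ hχ _ h11 (ker_six H.hM H.hB H.hD hf hfk
    (fun d hd => (hπ _).2 (hE1 _ hd)) h11 (mul_mem (pow_mem hc3 3) (pow_mem hc3 3)) (Subtype.ext ?_) hχ))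
  have h12 := pow_card_eq_one' (x := (⟨_, h11⟩ : center K))
  rw [hc] at h12
  exact congrArg (fun z : center K => (z : K)) h12

end Cfsg.Agent.BZ.C3
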